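import Cfsg.Agent.Lib.CNCount.Main
import Cfsg.Agent.Lib.Frobenius.Theorem
import Mathlib.GroupTheory.SchurZassenhaus

/-!
# Groups of odd order with abelian centralizers are solvable
-/

set_option autoImplicit false

open scoped commutatorElement Pointwise

namespace CfsgLib.CNCount

universe u

theorem ca_solvable_aux (n : ℕ) : ∀ (G : Type u) [Group G] [Finite G], Nat.card G = n →
    Odd (Nat.card G) →
    (∀ x : G, x ≠ 1 → ∀ a ∈ Subgroup.centralizer ({x} : Set G),
      ∀ b ∈ Subgroup.centralizer ({x} : Set G), a * b = b * a) → Group.IsSolvable G := by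
  induction n using Nat.strong_induction_on with
  | _ n ih =>
  intro G _ _ hn hodd hCA
  have hsub : ∀ H : Subgroup G, H ≠ ⊤ → Group.IsSolvable ↥H := by
    intro H hH
    refine ih (Nat.card ↥H) ?_ ↥H rfl (hodd.of_dvd_nat H.card_subgroup_dvd_card) ?_
    · rw [← hn]
      rcases lt_or_eq_of_le (Nat.le_of_dvd Nat.card_pos H.card_subgroup_dvd_card) with h | h
      · exact h
      · exact absurd (H.eq_top_of_card_eq h) hH
    · intro x hx a ha b hb
      have hmem : ∀ c ∈ Subgroup.centralizer ({x} : Set ↥H),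
          (c : G) ∈ Subgroup.centralizer ({(x : G)} : Set G) := fun c hc =>
        Subgroup.mem_centralizer_singleton_iff.2
          (congrArg Subtype.val (Subgroup.mem_centralizer_singleton_iff.1 hc))
      exact Subtype.ext (hCA x (fun h => hx (Subtype.ext h)) a (hmem a ha) b (hmem b hb))
  let A : G → Subgroup G := fun x => Subgroup.centralizer ({x} : Set G)
  have hmem : ∀ x, x ∈ A x := fun x => Subgroup.mem_centralizer_singleton_iff.2 rfl
  have hself : ∀ x y, x ≠ 1 → y ≠ 1 → y ∈ A x → A y = A x := by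
    intro x y hx hy hyx
    ext z
    constructor
    · intro hz
      have hxy : x ∈ A y := Subgroup.mem_centralizer_singleton_iff.2
        (hCA x hx x (hmem x) y hyx)
      exact Subgroup.mem_centralizer_singleton_iff.2 (hCA y hy z hz x hxy)
    · exact fun hz => Subgroup.mem_centralizer_singleton_iff.2 (hCA x hx z hz y hyx)
  have hconj : ∀ (g x z : G), z ∈ A x ↔ g * z * g⁻¹ ∈ A (g * x * g⁻¹) := by
    intro g x z
    simp only [A, Subgroup.mem_centralizer_singleton_iff]
    rw [show g * z * g⁻¹ * (g * x * g⁻¹) = g * (z * x) * g⁻¹ by group,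
      show g * x * g⁻¹ * (g * z * g⁻¹) = g * (x * z) * g⁻¹ by group, mul_left_inj, mul_right_inj]
  have hTI : ∀ x, x ≠ 1 → ∀ g : G, g ∉ Subgroup.normalizer (A x : Set G) → ∀ k ∈ A x,
      g * k * g⁻¹ ∈ A x → k = 1 := by
    intro x hx g hg k hk hgk
    by_contra hk1
    refine hg (Subgroup.mem_normalizer_iff.2 fun z => ?_)
    have h1 := hself x k hx hk1 hk
    have h2 := hself x (g * k * g⁻¹) hx (fun h => hk1 (conj_eq_one_iff.1 h)) hgk
    conv_lhs => rw [← h1, hconj g]
    rw [h2]
  have hcent : ∀ x, x ≠ 1 → ∀ k ∈ A x, k ≠ 1 → Subgroup.centralizer ({k} : Set G) ≤ A x :=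
    fun x hx k hk hk1 => (hself x k hx hk1 hk).le
  by_cases hnt : Subsingleton G
  · infer_instance
  rw [not_subsingleton_iff_nontrivial] at hnt
  by_cases hNex : ∃ B : Subgroup G, B.Normal ∧ B ≠ ⊥ ∧ B ≠ ⊤
  · obtain ⟨B, hB⟩ := (Set.toFinite {B : Subgroup G | B.Normal ∧ B ≠ ⊥ ∧ B ≠ ⊤}).exists_minimal hNex
    obtain ⟨⟨hBn, hBb, hBt⟩, hBmin⟩ := hB
    haveI := hBn
    haveI := hsub B hBt
    have hab : ⁅B, B⁆ = ⊥ := by
      by_contra hne
      have hlt : ⁅B, B⁆ < B := by
        haveI := (Subgroup.nontrivial_iff_ne_bot B).2 hBb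
        have h1 := Subgroup.map_subtype_lt_map_subtype.2
          (Group.IsSolvable.commutator_lt_top_of_nontrivial ↥B)
        rwa [Subgroup.map_subtype_commutator, ← MonoidHom.range_eq_map, Subgroup.range_subtype] at h1
      exact absurd (hBmin ⟨inferInstance, hne, fun h => hBt (top_le_iff.1 (h ▸ hlt.le))⟩ hlt.le)
        hlt.not_ge
    obtain ⟨b, hb, hb1⟩ := (Subgroup.bot_or_exists_ne_one B).resolve_left hBb
    have hBA : B ≤ A b := fun c hc => Subgroup.mem_centralizer_singleton_iff.2 (by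
      have h1 := Subgroup.commutator_mem_commutator hc hb
      rwa [hab, Subgroup.mem_bot, commutatorElement_eq_one_iff_mul_comm] at h1)
    have hAn : (A b).Normal := Subgroup.normalizer_eq_top_iff.1 (by
      rw [eq_top_iff]
      intro g _
      by_contra hg
      exact hb1 (hTI b hb1 g hg b (hmem b) (hBA (hBn.conj_mem b hb g))))
    haveI := hAn
    have hcop : (Nat.card ↥(A b)).Coprime (A b).index :=
      CfsgLib.TIFN.coprime_index (hTI b hb1) (hcent b hb1)
    obtain ⟨E, hE⟩ := Subgroup.exists_right_complement'_of_coprime hcop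
    have hE1 : E ≠ ⊤ := by
      intro h
      rw [h, Subgroup.isComplement'_top_right] at hE
      exact hb1 (by
        have h2 : b ∈ A b := hmem b
        rwa [hE, Subgroup.mem_bot] at h2)
    haveI := hsub E hE1
    haveI : Group.IsSolvable ↥(A b) := Group.isSolvable_of_comm fun p q =>
      Subtype.ext (hCA b hb1 p p.2 q q.2)
    haveI : Group.IsSolvable (G ⧸ A b) := by
      refine Group.isSolvable_of_surjective (f := (QuotientGroup.mk' (A b)).comp E.subtype) ?_
      intro q
      obtain ⟨g, rfl⟩ := QuotientGroup.mk_surjective q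
      obtain ⟨⟨a, c⟩, hac⟩ := hE.2 g
      refine ⟨c, ?_⟩
      show (QuotientGroup.mk (c : G) : G ⧸ A b) = QuotientGroup.mk g
      rw [← hac]
      show (QuotientGroup.mk (c : G) : G ⧸ A b) = QuotientGroup.mk ((a : G) * c)
      rw [QuotientGroup.mk_mul, (QuotientGroup.eq_one_iff (a : G)).2 a.2, one_mul]
    exact (Group.isSolvable_iff_subgroup_quotient (A b)).2 ⟨inferInstance, inferInstance⟩
  push Not at hNex
  by_cases hcomm : ∃ x, x ≠ 1 ∧ A x = ⊤
  · obtain ⟨x, hx, htop⟩ := hcomm
    exact Group.isSolvable_of_comm fun p q =>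
      hCA x hx p (show p ∈ A x from htop ▸ Subgroup.mem_top p)
        q (show q ∈ A x from htop ▸ Subgroup.mem_top q)
  push Not at hcomm
  have hAb : ∀ x, x ≠ 1 → A x ≠ ⊥ := fun x hx h => hx (by
    have h2 := hmem x
    rwa [h, Subgroup.mem_bot] at h2)
  have hlt : ∀ x, x ≠ 1 → A x < Subgroup.normalizer (A x : Set G) := by
    intro x hx
    refine lt_of_le_of_ne Subgroup.le_normalizer fun hN => ?_
    have hF : Cfsg.IsFrobeniusComplement (A x) := by
      refine ⟨hAb x hx, hcomm x hx, fun g hg => eq_bot_iff.2 fun k hk => ?_⟩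
      obtain ⟨hk1, hk2⟩ := Subgroup.mem_inf.1 hk
      rw [Subgroup.mem_pointwise_smul_iff_inv_smul_mem] at hk2
      exact hTI x hx g⁻¹ (fun h => hg (by rw [hN]; simpa using inv_mem h)) k hk1
        (by simpa [MulAut.smul_def, MulAut.conj_inv_apply] using hk2)
    obtain ⟨N, -, hNn, hNc⟩ := CfsgLib.Frobenius.exists_normal_kernel hF
    have hNb : N ≠ ⊥ := fun h => hcomm x hx (by
      rw [h, Subgroup.isComplement'_bot_left] at hNc
      exact hNc)
    have hNt : N = ⊤ := hNex N hNn hNb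
    rw [hNt, Subgroup.isComplement'_top_left] at hNc
    exact hAb x hx hNc
  let s : Setoid {x : G // x ≠ 1} :=
    { r := fun x y => ∃ g : G, ∀ z, z ∈ A x ↔ g * z * g⁻¹ ∈ A y
      iseqv := ⟨fun x => ⟨1, fun z => by simp⟩,
        fun ⟨g, hg⟩ => ⟨g⁻¹, fun z => by rw [hg]; simp [mul_assoc]⟩,
        fun ⟨g, hg⟩ ⟨h, hh⟩ => ⟨h * g, fun z => by rw [hg, hh]; simp [mul_assoc]⟩⟩ }
  haveI : Fintype G := Fintype.ofFinite G
  haveI : Fintype (Quotient s) := Fintype.ofFinite _
  refine (covering_false hodd (fun q : Quotient s => A q.out.1) (fun q => ?_) ?_ ?_).elim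
  · exact ⟨hTI _ q.out.2, hcent _ q.out.2, hlt _ q.out.2,
      (letI : CommGroup ↥(A q.out.1) :=
        { (inferInstance : Group ↥(A q.out.1)) with
          mul_comm := fun a b => Subtype.ext (hCA _ q.out.2 a a.2 b b.2) }
       inferInstance),
      hAb _ q.out.2⟩
  · intro i j hij k hk hk1 g hgk
    refine hij ?_
    rw [← Quotient.out_eq i, ← Quotient.out_eq j]
    refine Quotient.sound ⟨g, fun z => ?_⟩
    rw [← hself _ k i.out.2 hk1 hk, ← hself _ _ j.out.2 (fun h => hk1 (conj_eq_one_iff.1 h)) hgk]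
    exact hconj g k z
  · intro x hx
    obtain ⟨g, hg⟩ := Setoid.symm (Quotient.mk_out (⟨x, hx⟩ : {x : G // x ≠ 1}))
    exact ⟨⟦⟨x, hx⟩⟧, g, (hg x).1 (hmem x)⟩

/-- **The CA theorem** of Suzuki. -/
theorem ca_solvable (G : Type u) [Group G] [Finite G] (hodd : Odd (Nat.card G))
    (hCA : ∀ x : G, x ≠ 1 → ∀ a ∈ Subgroup.centralizer ({x} : Set G),
      ∀ b ∈ Subgroup.centralizer ({x} : Set G), a * b = b * a) : Group.IsSolvable G :=
  ca_solvable_aux _ G rfl hodd hCA

end CfsgLib.CNCount
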