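import Cfsg.Agent.Lib.Characters.Counting
import Cfsg.Agent.Lib.Characters.Clifford
import Mathlib.GroupTheory.Nilpotent
import Mathlib.GroupTheory.SpecificGroups.Cyclic

/-!
# Linear characters as test functions away from the derived subgroup
-/

set_option autoImplicit false

noncomputable section

namespace CfsgLib.CNCount

open Cfsg CfsgLib.Characters
open scoped ComplexConjugate commutatorElement

universe u

variable {K : Type u} [Group K] [Finite K]

instance finiteUnitsHom : Finite (K →* ℂˣ) :=
  Finite.of_injective _ (linearIrr_injective (G := K))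

noncomputable instance fintypeUnitsHom : Fintype (K →* ℂˣ) := Fintype.ofFinite _

theorem card_unitsHom : Nat.card (K →* ℂˣ) = (commutator K).index := by
  rw [← card_linear_irr]
  exact Nat.card_eq_of_bijective (fun f => ⟨linearIrr f, by simp [linearIrr]⟩)
    ⟨fun f f' h => linearIrr_injective (congrArg Subtype.val h),
      fun χ => (exists_linearIrr_eq χ.1 χ.2).imp fun f hf => Subtype.ext hf⟩

/-- Linear characters separate the elements outside the derived subgroup. -/
theorem exists_unitsHom_ne_one {x : K} (hx : x ∉ commutator K) : ∃ f : K →* ℂˣ, f x ≠ 1 := by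
  haveI : NeZero (Monoid.exponent (Abelianization K) : ℂ) :=
    ⟨Nat.cast_ne_zero.mpr Monoid.exponent_ne_zero_of_finite⟩
  have hx' : Abelianization.of x ≠ (1 : Abelianization K) := fun h => hx (by
    exact (QuotientGroup.eq_one_iff x).1 h)
  obtain ⟨φ, hφ⟩ := CommGroup.exists_apply_ne_one_of_hasEnoughRootsOfUnity (Abelianization K) ℂ hx'
  exact ⟨φ.comp Abelianization.of, hφ⟩

open scoped Classical in
theorem sum_unitsHom (x : K) :
    ∑ f : K →* ℂˣ, (f x : ℂ) = if x ∈ commutator K then ((commutator K).index : ℂ) else 0 := by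
  split_ifs with hx
  · rw [Finset.sum_congr rfl (fun f _ => show (f x : ℂ) = 1 by
      rw [show f x = 1 from (Abelianization.commutator_subset_ker f) hx, Units.val_one]),
      Finset.sum_const, nsmul_one, Finset.card_univ, ← Nat.card_eq_fintype_card, card_unitsHom]
  · obtain ⟨φ, hφ⟩ := exists_unitsHom_ne_one hx
    have h : (φ x : ℂ) * ∑ f : K →* ℂˣ, (f x : ℂ) = ∑ f : K →* ℂˣ, (f x : ℂ) := by
      rw [Finset.mul_sum]
      exact Fintype.sum_equiv (Equiv.mulLeft φ) _ _ fun f => by simp
    by_contra hne
    have h1 : (φ x : ℂ) = 1 := (mul_eq_right₀ hne).1 h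
    exact hφ (Units.ext h1)

theorem conj_unitsHom [Fintype K] (f : K →* ℂˣ) (x : K) : conj (f x : ℂ) = ((f x)⁻¹ : ℂˣ) := by
  rw [← char_apply_inv (isCharacter_of_irr (isIrrCharacter_of_hom f)) x, map_inv]

open scoped Classical in
/-- The sum of all linear coefficients is the average over the derived subgroup. -/
theorem sum_coeff [Fintype K] (F : K → ℂ) :
    (Nat.card (commutator K) : ℂ) * ∑ f : K →* ℂˣ, classInner F (fun x => (f x : ℂ)) =
      ∑ x ∈ Finset.univ.filter (fun x : K => x ∈ commutator K), F x := by
  simp only [classInner, ← Finset.mul_sum]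
  rw [Finset.sum_comm]
  simp only [← Finset.mul_sum, ← map_sum, sum_unitsHom, apply_ite conj, map_natCast, map_zero,
    mul_ite, mul_zero, ← Finset.sum_filter]
  rw [← Finset.sum_mul, ← mul_assoc, ← mul_assoc]
  have h : (Nat.card K : ℂ) = (Nat.card (commutator K) : ℂ) * ((commutator K).index : ℂ) := by
    rw [← Nat.cast_mul, (commutator K).card_mul_index]
  have h1 : (Nat.card (commutator K) : ℂ) ≠ 0 := Nat.cast_ne_zero.2 Nat.card_pos.ne'
  have h2 : ((commutator K).index : ℂ) ≠ 0 := Nat.cast_ne_zero.2 Subgroup.index_ne_zero_of_finite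
  rw [h]
  field_simp

open scoped Classical in
/-- Lower bound for the sum of squares outside the derived subgroup from the linear coefficients. -/
theorem linear_bound [Fintype K] (F : K → ℂ) :
    (Nat.card (commutator K) : ℝ) *
        (((commutator K).index : ℝ) *
            ∑ f : K →* ℂˣ, Complex.normSq (classInner F (fun x => (f x : ℂ))) -
          Complex.normSq (∑ f : K →* ℂˣ, classInner F (fun x => (f x : ℂ)))) ≤
      ∑ x ∈ Finset.univ.filter (fun x : K => x ∉ commutator K), Complex.normSq (F x) := by
  set p : (K →* ℂˣ) → ℂ := fun f => classInner F (fun x => (f x : ℂ)) with hp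
  set L : ℂ := ∑ f, p f with hL
  set T : K → ℂ := fun x => ∑ f : K →* ℂˣ, p f * (f x : ℂ) with hT
  let D : Finset K := Finset.univ.filter fun x => x ∈ commutator K
  let O : Finset K := Finset.univ.filter fun x => x ∉ commutator K
  have hsplit : ∀ H : K → ℂ, ∑ x, H x = ∑ x ∈ D, H x + ∑ x ∈ O, H x := fun H =>
    (Finset.sum_filter_add_sum_filter_not Finset.univ (fun x => x ∈ commutator K) H).symm
  have hK : (Nat.card K : ℂ) ≠ 0 := Nat.cast_ne_zero.2 Nat.card_pos.ne'
  have hTD : ∀ x ∈ D, T x = L := by
    intro x hx
    refine Finset.sum_congr rfl fun f _ => ?_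
    rw [show f x = 1 from (Abelianization.commutator_subset_ker f) (Finset.mem_filter.1 hx).2,
      Units.val_one, mul_one]
  have hFT : ∑ x, F x * conj (T x) = (Nat.card K : ℂ) * ∑ f, p f * conj (p f) := by
    simp only [hT, map_sum, map_mul, Finset.mul_sum]
    rw [Finset.sum_comm]
    refine Finset.sum_congr rfl fun f _ => ?_
    simp only [hp, classInner]
    rw [← mul_assoc, ← mul_assoc, mul_inv_cancel₀ hK, one_mul, Finset.sum_mul]
    exact Finset.sum_congr rfl fun x _ => by ring
  have hTT : ∑ x, T x * conj (T x) = (Nat.card K : ℂ) * ∑ f, p f * conj (p f) := by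
    have h1 : classInner T T = ∑ f, p f * conj (p f) := by
      have hT' : T = ∑ f, p f • fun x => (f x : ℂ) := by
        funext x
        simp [hT]
      calc classInner T T = classInner (∑ f, p f • fun x => (f x : ℂ)) T :=
            congrArg (fun W => classInner W T) hT'
        _ = _ := ?_
      rw [classInner_sum_left]
      refine Finset.sum_congr rfl fun f _ => ?_
      rw [classInner_smul_left, hT', classInner_sum_right, Finset.sum_eq_single f]
      · rw [classInner_smul_right, classInner_irr_self (isIrrCharacter_of_hom f), mul_one]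
      · intro f' _ hne
        rw [classInner_smul_right, classInner_irr_ne (isIrrCharacter_of_hom f)
          (isIrrCharacter_of_hom f') fun h => hne (MonoidHom.ext fun x => Units.ext (congrFun h x)).symm,
          mul_zero]
      · exact fun h => absurd (Finset.mem_univ f) h
    rw [← h1, classInner, ← mul_assoc, mul_inv_cancel₀ hK, one_mul]
  have hFD : ∑ x ∈ D, F x = (Nat.card (commutator K) : ℂ) * L := (sum_coeff F).symm
  have hcardD : (D.card : ℂ) = (Nat.card (commutator K) : ℂ) := by
    rw [Nat.card_eq_fintype_card, Fintype.card_subtype]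
  have hFO : ∑ x ∈ O, F x * conj (T x) = (Nat.card K : ℂ) * ∑ f, p f * conj (p f) -
      (Nat.card (commutator K) : ℂ) * (L * conj L) := by
    rw [← hFT, hsplit, Finset.sum_congr rfl (fun x (hx : x ∈ D) => show
      F x * conj (T x) = F x * conj L by rw [hTD x hx]), ← Finset.sum_mul, hFD]
    ring
  have hTO : ∑ x ∈ O, T x * conj (T x) = (Nat.card K : ℂ) * ∑ f, p f * conj (p f) -
      (Nat.card (commutator K) : ℂ) * (L * conj L) := by
    rw [← hTT, hsplit, Finset.sum_congr rfl (fun x (hx : x ∈ D) => show
      T x * conj (T x) = L * conj L by rw [hTD x hx]), Finset.sum_const, nsmul_eq_mul, hcardD]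
    ring
  have hRHS : ((Nat.card K : ℂ) * ∑ f, p f * conj (p f) -
      (Nat.card (commutator K) : ℂ) * (L * conj L)) =
      (((Nat.card (commutator K) : ℝ) * (((commutator K).index : ℝ) *
        ∑ f, Complex.normSq (p f) - Complex.normSq L) : ℝ) : ℂ) := by
    rw [← (commutator K).card_mul_index]
    simp only [Complex.mul_conj]
    push_cast
    ring
  have hkey : 0 ≤ ∑ x ∈ O, Complex.normSq (F x - T x) :=
    Finset.sum_nonneg fun x _ => Complex.normSq_nonneg _
  simp only [Complex.normSq_sub, Finset.sum_add_distrib, Finset.sum_sub_distrib,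
    ← Finset.mul_sum, ← Complex.re_sum] at hkey
  rw [hFO, hRHS, Complex.ofReal_re] at hkey
  have hTO' : ∑ x ∈ O, Complex.normSq (T x) = (Nat.card (commutator K) : ℝ) *
      (((commutator K).index : ℝ) * ∑ f, Complex.normSq (p f) - Complex.normSq L) := by
    apply Complex.ofReal_injective
    rw [← hRHS, ← hTO, Complex.ofReal_sum]
    simp only [Complex.mul_conj]
  linarith

/-- A nilpotent group with squarefree abelianization order is abelian. -/
theorem commutator_eq_bot_of_squarefree [Group.IsNilpotent K]
    (h : Squarefree (commutator K).index) : commutator K = ⊥ := by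
  have hsq : Squarefree (Nat.card (Abelianization K)) := by
    rwa [Subgroup.index_eq_card] at h
  have hcyc : IsCyclic (Abelianization K) := by
    rw [IsCyclic.iff_exponent_eq_card]
    refine Nat.dvd_antisymm Group.exponent_dvd_nat_card ?_
    refine (Nat.dvd_iff_prime_pow_dvd_dvd _ _).2 fun p k hp hpk => ?_
    have hk : k ≤ 1 := by
      by_contra hk
      exact hp.ne_one (Nat.isUnit_iff.1 (hsq p (dvd_trans (by
        rw [← pow_two]; exact pow_dvd_pow p (by omega)) hpk)))
    interval_cases k
    · simp
    · rw [pow_one] at hpk ⊢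
      haveI := Fact.mk hp
      obtain ⟨y, hy⟩ := exists_prime_orderOf_dvd_card' p hpk
      exact hy ▸ Monoid.order_dvd_exponent y
  obtain ⟨y, hy⟩ := hcyc.exists_generator
  obtain ⟨x, rfl⟩ := QuotientGroup.mk_surjective y
  let L : Subgroup K := Subgroup.zpowers x
  have hsup : L ⊔ commutator K = ⊤ := by
    rw [eq_top_iff]
    intro z _
    obtain ⟨i, hi⟩ := Subgroup.mem_zpowers_iff.1 (hy (QuotientGroup.mk z))
    have hi' : (QuotientGroup.mk (x ^ i) : K ⧸ commutator K) = QuotientGroup.mk z := hi
    rw [← mul_inv_cancel_left (x ^ i) z]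
    exact Subgroup.mul_mem_sup (Subgroup.zpow_mem _ (Subgroup.mem_zpowers x) i) (QuotientGroup.eq.1 hi')
  have hL : L = ⊤ := by
    by_contra hne
    obtain ⟨M, hMco, hLM⟩ := (eq_top_or_exists_le_coatom L).resolve_left hne
    have hMn : M.Normal :=
      Subgroup.NormalizerCondition.normal_of_coatom M Group.normalizerCondition_of_isNilpotent hMco
    haveI := hMn
    have hprime : Nat.card (K ⧸ M) ≠ 1 := by
      rw [← Subgroup.index_eq_card]
      exact fun h1 => hMco.1 (Subgroup.index_eq_one.1 h1)
    have hsimple : IsSimpleGroup (K ⧸ M) :=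
      { exists_pair_ne := (QuotientGroup.nontrivial_iff.2 hMco.1).exists_pair_ne
        eq_bot_or_eq_top_of_normal := fun S _ => by
          have hle : M ≤ S.comap (QuotientGroup.mk' M) := by
            intro z hz
            rw [Subgroup.mem_comap, QuotientGroup.mk'_apply, (QuotientGroup.eq_one_iff z).2 hz]
            exact S.one_mem
          rcases hle.eq_or_lt with heq | hlt
          · left
            have := congrArg (Subgroup.map (QuotientGroup.mk' M)) heq.symm
            rwa [Subgroup.map_comap_eq_self_of_surjective (QuotientGroup.mk'_surjective M),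
              QuotientGroup.map_mk'_self] at this
          · right
            have := congrArg (Subgroup.map (QuotientGroup.mk' M)) (hMco.2 _ hlt)
            rwa [Subgroup.map_comap_eq_self_of_surjective (QuotientGroup.mk'_surjective M),
              Subgroup.map_top_of_surjective _ (QuotientGroup.mk'_surjective M)] at this }
    have hsol : Group.IsSolvable (K ⧸ M) :=
      Group.isSolvable_of_surjective (QuotientGroup.mk'_surjective M)
    have hcomm : commutator K ≤ M := by
      rw [commutator_def, Subgroup.commutator_le]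
      intro a _ b _
      rw [← QuotientGroup.eq_one_iff (N := M)]
      show (QuotientGroup.mk' M) ⁅a, b⁆ = 1
      rw [map_commutatorElement, commutatorElement_eq_one_iff_mul_comm]
      exact IsSimpleGroup.comm_iff_isSolvable.2 hsol _ _
    exact hMco.1 (top_le_iff.1 (hsup ▸ sup_le hLM hcomm))
  have hc : ∀ a b : K, a * b = b * a := by
    intro a b
    obtain ⟨i, rfl⟩ := Subgroup.mem_zpowers_iff.1 (show a ∈ L from hL ▸ Subgroup.mem_top a)
    obtain ⟨j, rfl⟩ := Subgroup.mem_zpowers_iff.1 (show b ∈ L from hL ▸ Subgroup.mem_top b)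
    exact ((Commute.refl x).zpow_zpow i j).eq
  rw [commutator_def, eq_bot_iff, Subgroup.commutator_le]
  intro a _ b _
  rw [Subgroup.mem_bot, commutatorElement_eq_one_iff_mul_comm]
  exact hc a b

end CfsgLib.CNCount
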