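import Mathlib.Algebra.Squarefree.Basic
import Mathlib.Algebra.Order.BigOperators.Group.Finset
import Mathlib.Tactic.Linarith
import Mathlib.Tactic.IntervalCases
import Mathlib.Tactic.NormNum.Prime
import Mathlib.Tactic.FieldSimp
import Mathlib.Tactic.Positivity
import Mathlib.Tactic.Push
import Mathlib.Data.Real.Basic
import Mathlib.Data.Nat.Prime.Basic
import Mathlib.Data.Nat.Squarefree
import Mathlib.Algebra.BigOperators.Field

/-!
# The arithmetic of the counting argument
-/

set_option autoImplicit false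

namespace CfsgLib.CNCount

/-- Final inequality of the case of two exceptional characters and large index. -/
theorem large_case {e : ℝ} (he : 11 ≤ e) :
    1 / e + e / (2 * e + 1) * ((2 * e + 3) / (2 * e + 2)) + (3 * e - 1) / (3 * (2 * e + 4)) < 1 := by
  have h0 : 0 < e := by linarith
  have h1 : 0 < 2 * e + 1 := by linarith
  have h2 : 0 < 2 * e + 2 := by linarith
  have h3 : 0 < 3 * (2 * e + 4) := by linarith
  rw [div_mul_div_comm, div_add_div _ _ h0.ne' (by positivity), div_add_div _ _ (by positivity)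
    h3.ne', div_lt_one (by positivity)]
  nlinarith [mul_nonneg (sub_nonneg.2 he) h0.le, mul_nonneg (mul_nonneg (sub_nonneg.2 he) h0.le) h0.le,
    mul_nonneg (mul_nonneg (mul_nonneg (sub_nonneg.2 he) h0.le) h0.le) h0.le]

/-- The numerical contradiction. -/
theorem arith {ι : Type*} [Fintype ι] [DecidableEq ι] (g : ℝ) (hg : 0 < g) (k : ι)
    (e w : ι → ℕ) (x : ι → ℝ) (he : ∀ i, Odd (e i)) (he3 : ∀ i, 3 ≤ e i)
    (hw : ∀ i, Even (w i)) (hw2 : ∀ i, 2 ≤ w i)
    (hinj : Function.Injective fun i => w i * e i + 1)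
    (hmin : ∀ i, w k * e k + 1 ≤ w i * e i + 1)
    (hx : ∀ i, x i ≤ 1 / (e i : ℝ))
    (hsq : ∀ i, Squarefree (w i * e i + 1) → x i = (w i : ℝ) / ((w i : ℝ) * e i + 1))
    (hsum : ∑ i, x i = 1 - 1 / g) (A : Finset ι) (hkA : k ∉ A)
    (hA : ∑ i ∈ A, (w i : ℝ) / ((w i : ℝ) * e i + 1) ≤
      (e k : ℝ) / ((w k : ℝ) * e k + 1) - 1 / g)
    (hB : ∑ i ∈ Finset.univ \ insert k A, (w i : ℝ) ≤ (e k : ℝ) - 1) : False := by
  set B := Finset.univ \ insert k A
  have hkB : k ∉ B := fun h => (Finset.mem_sdiff.1 h).2 (Finset.mem_insert_self k A)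
  have hsplit : ∑ i, x i = x k + ∑ i ∈ A, x i + ∑ i ∈ B, x i := by
    rw [← Finset.sum_sdiff (Finset.subset_univ (insert k A)), Finset.sum_insert hkA]
    ring
  rw [hsplit] at hsum
  have hwpos : ∀ i, (0 : ℝ) < w i := fun i => by exact_mod_cast (by linarith [hw2 i] : 0 < w i)
  have hepos : ∀ i, (0 : ℝ) < e i := fun i => by exact_mod_cast (by linarith [he3 i] : 0 < e i)
  have hqeven : ∀ i, Even (w i * e i) := fun i => (hw i).mul_right _
  have hgen : ∀ i, 1 / (e i : ℝ) = (w i : ℝ) / ((w i : ℝ) * e i) := fun i => by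
    rw [div_mul_cancel_left₀ (hwpos i).ne', one_div]
  -- bounds on the members of `A` and `B`
  have hA' : ∀ c : ℝ, 1 ≤ c → (∀ i ∈ A, x i ≤ (w i : ℝ) / ((w i : ℝ) * e i + 1) * c) →
      ∑ i ∈ A, x i ≤ (e k : ℝ) / ((w k : ℝ) * e k + 1) * c - 1 / g := by
    intro c hc h
    refine (Finset.sum_le_sum h).trans ?_
    rw [← Finset.sum_mul]
    have h0 : 0 ≤ c := le_trans zero_le_one hc
    have hg' : (0 : ℝ) ≤ 1 / g := by positivity
    nlinarith [mul_le_mul_of_nonneg_right hA h0]
  have hB' : ∀ c : ℝ, 0 < c → (∀ i ∈ B, x i ≤ (w i : ℝ) / c) →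
      ∑ i ∈ B, x i ≤ ((e k : ℝ) - 1) / c := by
    intro c hc h
    refine (Finset.sum_le_sum h).trans ?_
    rw [← Finset.sum_div]
    exact div_le_div_of_nonneg_right hB hc.le
  have hne : ∀ i, i ≠ k → w k * e k + 2 ≤ w i * e i := fun i hi => by
    have h1 : w i * e i + 1 ≠ w k * e k + 1 := fun h => hi (hinj h)
    have h2 := hmin i
    obtain ⟨a, ha⟩ := hqeven i
    obtain ⟨b, hb⟩ := hqeven k
    omega
  have hq1 : ∀ i (c : ℝ), 0 < c → c ≤ (w i : ℝ) * e i →
      (w i : ℝ) / ((w i : ℝ) * e i) ≤ (w i : ℝ) / c := fun i c hc h =>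
    div_le_div_of_nonneg_left (hwpos i).le hc h
  have hfac : ∀ i (c : ℝ), 0 < c → c ≤ (w i : ℝ) * e i →
      (w i : ℝ) / ((w i : ℝ) * e i) ≤ (w i : ℝ) / ((w i : ℝ) * e i + 1) * ((c + 1) / c) := by
    intro i c hc h
    have h1 : (0 : ℝ) < (w i : ℝ) * e i := mul_pos (hwpos i) (hepos i)
    rw [div_mul_div_comm, div_le_div_iff₀ h1 (by positivity)]
    nlinarith [mul_le_mul_of_nonneg_left h (hwpos i).le]
  by_cases hw4 : 4 ≤ w k
  · -- many exceptional characters
    set q0 : ℝ := (w k : ℝ) * e k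
    have hq0 : 0 < q0 := mul_pos (hwpos k) (hepos k)
    have hle : ∀ i, i ≠ k → q0 ≤ (w i : ℝ) * e i := fun i hi => by
      have h1 : w k * e k ≤ w i * e i := by linarith [hne i hi]
      show (w k : ℝ) * e k ≤ _
      exact_mod_cast h1
    have hAs := hA' ((q0 + 1) / q0) (by rw [one_le_div hq0]; linarith) fun i hi =>
      ((hx i).trans (le_of_eq (hgen i))).trans (hfac i q0 hq0 (hle i (fun h => hkA (h ▸ hi))))
    have hBs := hB' q0 hq0 fun i hi =>
      ((hx i).trans (le_of_eq (hgen i))).trans (hq1 i q0 hq0 (hle i (fun h => hkB (h ▸ hi))))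
    have hxk := hx k
    have hw4' : (4 : ℝ) ≤ w k := by exact_mod_cast hw4
    have he3' : (3 : ℝ) ≤ e k := by exact_mod_cast he3 k
    have h2 : (e k : ℝ) / (q0 + 1) * ((q0 + 1) / q0) = (e k : ℝ) / q0 := by
      field_simp
    rw [h2] at hAs
    have h3 : 1 / (e k : ℝ) + ((e k : ℝ) / q0 + ((e k : ℝ) - 1) / q0) < 1 := by
      rw [← add_div, hgen k, ← add_div, div_lt_one hq0]
      nlinarith
    linarith
  have hwk : w k = 2 := by
    obtain ⟨a, ha⟩ := hw k
    have := hw2 k
    omega
  have hqk : (w k : ℝ) = 2 := by exact_mod_cast hwk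
  rw [hqk] at hA'
  by_cases h11 : 11 ≤ e k
  · -- large index
    have hpos : (0 : ℝ) < 2 * (e k : ℝ) + 2 := by linarith [hepos k]
    have hAs := hA' ((2 * (e k : ℝ) + 3) / (2 * (e k : ℝ) + 2))
      (by rw [one_le_div hpos]; linarith) fun i hi => by
        refine ((hx i).trans (le_of_eq (hgen i))).trans ((hfac i (2 * (e k : ℝ) + 2) hpos ?_).trans
          (le_of_eq (by ring)))
        have h1 := hne i (fun h => hkA (h ▸ hi))
        rw [hwk] at h1
        exact_mod_cast h1
    have hBs : ∑ i ∈ B, x i ≤ (3 * (e k : ℝ) - 1) / (3 * (2 * (e k : ℝ) + 4)) := by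
      have hpos4 : (0 : ℝ) < 2 * (e k : ℝ) + 4 := by linarith
      have hb : ∀ i ∈ B, x i ≤ (w i : ℝ) / (2 * (e k : ℝ) + 4) +
          if w i * e i = w k * e k + 2 then 2 / (3 * (2 * (e k : ℝ) + 4)) else 0 := by
        intro i hi
        have h1 := hne i (fun h => hkB (h ▸ hi))
        refine ((hx i).trans (le_of_eq (hgen i))).trans ?_
        split_ifs with hT
        · have hT' : (w i : ℝ) * e i = 2 * (e k : ℝ) + 2 := by
            rw [hwk] at hT
            exact_mod_cast hT
          have h3 : 3 * (w i : ℝ) ≤ 2 * (e k : ℝ) + 2 := by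
            rw [← hT', mul_comm]
            exact mul_le_mul_of_nonneg_left (by exact_mod_cast he3 i) (hwpos i).le
          rw [hT', div_add_div _ _ hpos4.ne' (by positivity), div_le_div_iff₀ hpos (by positivity)]
          nlinarith [mul_nonneg hpos4.le (sub_nonneg.2 h3)]
        · rw [add_zero]
          refine hq1 i _ hpos4 ?_
          obtain ⟨a, ha⟩ := hqeven i
          have : 2 * e k + 4 ≤ w i * e i := by
            rw [hwk] at h1 hT
            omega
          exact_mod_cast this
      refine (Finset.sum_le_sum hb).trans ?_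
      rw [Finset.sum_add_distrib, ← Finset.sum_div, ← Finset.sum_filter, Finset.sum_const,
        nsmul_eq_mul]
      have hcard : ((B.filter fun i => w i * e i = w k * e k + 2).card : ℝ) ≤ 1 := by
        have : (B.filter fun i => w i * e i = w k * e k + 2).card ≤ 1 :=
          Finset.card_le_one.2 fun a ha b hb => hinj (by
            simp [(Finset.mem_filter.1 ha).2, (Finset.mem_filter.1 hb).2])
        exact_mod_cast this
      have h4 : (3 * (e k : ℝ) - 1) / (3 * (2 * (e k : ℝ) + 4)) =
          ((e k : ℝ) - 1) / (2 * (e k : ℝ) + 4) + 1 * (2 / (3 * (2 * (e k : ℝ) + 4))) := by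
        field_simp
        ring
      rw [h4]
      gcongr
    have hxk := hx k
    linarith [large_case (e := (e k : ℝ)) (by exact_mod_cast h11)]
  have hek : e k = 3 ∨ e k = 5 ∨ e k = 7 ∨ e k = 9 := by
    obtain ⟨a, ha⟩ := he k
    have := he3 k
    omega
  have hT : ∀ i, w i * e i = w k * e k + 2 → e k = 5 → w i = 4 ∧ e i = 3 := by
    intro i h h5
    rw [hwk, h5] at h
    obtain ⟨a, ha⟩ := hw i
    obtain ⟨b, hb⟩ := he i
    have h1 := hw2 i
    have h2 := he3 i
    have : w i ≤ 4 := by nlinarith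
    interval_cases hwi : w i <;> omega
  have hsf : ∀ n : ℕ, n = 15 ∨ n = 19 → Squarefree n := by
    rintro n (rfl | rfl)
    · rw [show 15 = 3 * 5 from rfl, Nat.squarefree_mul (by decide)]
      exact ⟨(Nat.Prime.prime (by norm_num)).squarefree, (Nat.Prime.prime (by norm_num)).squarefree⟩
    · exact (Nat.Prime.prime (by norm_num)).squarefree
  rcases hek with h | h | h | h
  · -- index three
    have hq : ∀ i, i ≠ k → 10 ≤ w i * e i := by
      intro i hi
      have h1 := hne i hi
      rw [hwk, h] at h1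
      by_contra hlt
      obtain ⟨a, ha⟩ := hqeven i
      have h8 : w i * e i = 8 := by omega
      obtain ⟨a, ha⟩ := hw i
      obtain ⟨b, hb⟩ := he i
      have h2 := he3 i
      have h3 := hw2 i
      have : w i ≤ 2 := by nlinarith
      interval_cases hwi : w i
      omega
    have hek' : (e k : ℝ) = 3 := by exact_mod_cast h
    rw [hek'] at hA' hB'
    have hAs := hA' ((10 + 1) / 10) (by norm_num) fun i hi =>
      ((hx i).trans (le_of_eq (hgen i))).trans (hfac i 10 (by norm_num)
        (by exact_mod_cast hq i (fun h => hkA (h ▸ hi))))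
    have hBs := hB' 10 (by norm_num) fun i hi =>
      ((hx i).trans (le_of_eq (hgen i))).trans (hq1 i 10 (by norm_num)
        (by exact_mod_cast hq i (fun h => hkB (h ▸ hi))))
    have hxk := hsq k (by rw [hwk, h]; exact Nat.Prime.prime (by norm_num) |>.squarefree)
    rw [hqk, hek'] at hxk
    norm_num at hAs hBs hxk hsum
    linarith
  · -- index five
    have hek' : (e k : ℝ) = 5 := by exact_mod_cast h
    rw [hek'] at hA' hB'
    have hT' : ∀ i, i ≠ k → x i ≤ (w i : ℝ) / ((w i : ℝ) * e i + 1) * ((14 + 1) / 14) ∧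
        x i ≤ (w i : ℝ) / 13 := by
      intro i hi
      by_cases hT1 : w i * e i = w k * e k + 2
      · obtain ⟨h4, h3⟩ := hT i hT1 h
        have hxi := hsq i (by rw [h4, h3]; exact Nat.Prime.prime (by norm_num) |>.squarefree)
        rw [h4, h3] at hxi
        rw [hxi, h4, h3]
        norm_num
      · have h1 := hne i hi
        obtain ⟨a, ha⟩ := hqeven i
        have h14 : 14 ≤ w i * e i := by
          rw [hwk, h] at h1 hT1
          omega
        have hx1 := (hx i).trans (le_of_eq (hgen i))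
        exact ⟨hx1.trans (hfac i 14 (by norm_num) (by exact_mod_cast h14)),
          hx1.trans (hq1 i 13 (by norm_num) (by
            have : 13 ≤ w i * e i := by omega
            exact_mod_cast this))⟩
    have hAs := hA' ((14 + 1) / 14) (by norm_num) fun i hi => (hT' i (fun h => hkA (h ▸ hi))).1
    have hBs := hB' 13 (by norm_num) fun i hi => (hT' i (fun h => hkB (h ▸ hi))).2
    have hxk := hsq k (by rw [hwk, h]; exact Nat.Prime.prime (by norm_num) |>.squarefree)
    rw [hqk, hek'] at hxk
    norm_num at hAs hBs hxk hsum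
    linarith
  all_goals
    have hek' : (e k : ℝ) = (e k : ℝ) := rfl
    have hcast : ∀ i, i ≠ k → 2 * (e k : ℝ) + 2 ≤ (w i : ℝ) * e i := fun i hi => by
      have h1 := hne i hi
      rw [hwk] at h1
      exact_mod_cast h1
    have hAs := hA' ((2 * (e k : ℝ) + 2 + 1) / (2 * (e k : ℝ) + 2))
      (by rw [one_le_div (by positivity)]; linarith) fun i hi =>
      ((hx i).trans (le_of_eq (hgen i))).trans (hfac i _ (by positivity)
        (hcast i (fun h => hkA (h ▸ hi))))
    have hpos4 : (0 : ℝ) < 2 * (e k : ℝ) + 4 := by positivity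
    have hb : ∀ i ∈ B, x i ≤ (w i : ℝ) / (2 * (e k : ℝ) + 4) +
        if w i * e i = w k * e k + 2 then 2 / (3 * (2 * (e k : ℝ) + 4)) else 0 := by
      intro i hi
      have h1 := hne i (fun h => hkB (h ▸ hi))
      refine ((hx i).trans (le_of_eq (hgen i))).trans ?_
      split_ifs with hT1
      · have hT' : (w i : ℝ) * e i = 2 * (e k : ℝ) + 2 := by
          rw [hwk] at hT1
          exact_mod_cast hT1
        have h3 : 3 * (w i : ℝ) ≤ 2 * (e k : ℝ) + 2 := by
          rw [← hT', mul_comm]
          exact mul_le_mul_of_nonneg_left (by exact_mod_cast he3 i) (hwpos i).le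
        rw [hT', div_add_div _ _ hpos4.ne' (by positivity),
          div_le_div_iff₀ (by positivity) (by positivity)]
        nlinarith [mul_nonneg hpos4.le (sub_nonneg.2 h3)]
      · rw [add_zero]
        refine hq1 i _ hpos4 ?_
        obtain ⟨a, ha⟩ := hqeven i
        have : 2 * e k + 4 ≤ w i * e i := by
          rw [hwk] at h1 hT1
          omega
        exact_mod_cast this
    have hBs : ∑ i ∈ B, x i ≤ ((e k : ℝ) - 1) / (2 * (e k : ℝ) + 4) +
        2 / (3 * (2 * (e k : ℝ) + 4)) := by
      refine (Finset.sum_le_sum hb).trans ?_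
      rw [Finset.sum_add_distrib, ← Finset.sum_div, ← Finset.sum_filter, Finset.sum_const,
        nsmul_eq_mul]
      have hcard : ((B.filter fun i => w i * e i = w k * e k + 2).card : ℝ) ≤ 1 := by
        have : (B.filter fun i => w i * e i = w k * e k + 2).card ≤ 1 :=
          Finset.card_le_one.2 fun a ha b hb => hinj (by
            simp [(Finset.mem_filter.1 ha).2, (Finset.mem_filter.1 hb).2])
        exact_mod_cast this
      gcongr
      exact mul_le_of_le_one_left (by positivity) hcard
    have hxk := hsq k (hsf _ (by rw [hwk, h]; omega))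
    rw [h] at hAs hBs hxk
    rw [hwk] at hxk
    norm_num at hAs hBs hxk hsum
    linarith

end CfsgLib.CNCount
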