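import Cfsg.Agent.Lib.CNCount.Member
import Cfsg.Agent.Lib.CNCount.Arith

/-!
# No group of odd order is covered by self-centralizing nilpotent T.I. subgroups
-/

set_option autoImplicit false

noncomputable section

namespace CfsgLib.CNCount

open Cfsg CfsgLib.Characters
open scoped ComplexConjugate

universe u v

variable {G : Type u} [Group G] [Fintype G]

theorem classInner_eq_zero_of_suppOn {K L : Subgroup G}
    (hKL : ∀ k ∈ K, k ≠ 1 → ∀ g : G, g * k * g⁻¹ ∉ L) {F H : G → ℂ}
    (hF : SuppOn K F) (hH : SuppOn L H) : classInner F H = 0 := by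
  refine mul_eq_zero_of_right _ (Finset.sum_eq_zero fun g _ => ?_)
  by_contra hne
  obtain ⟨hF', hH'⟩ := mul_ne_zero_iff.1 hne
  have h1 : ∃ x, x⁻¹ * g * x ∈ K ∧ g ≠ 1 := by
    by_contra hc
    push Not at hc
    exact hF' (hF g hc)
  have h2 : ∃ y, y⁻¹ * g * y ∈ L ∧ g ≠ 1 := by
    by_contra hc
    push Not at hc
    exact hH' (by rw [hH g hc, map_zero])
  obtain ⟨x, hx, hg⟩ := h1
  obtain ⟨y, hy, -⟩ := h2
  refine hKL _ hx (fun he => hg ?_) (y⁻¹ * x) ?_
  · calc g = x * (x⁻¹ * g * x) * x⁻¹ := by group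
      _ = 1 := by rw [he]; group
  · rw [show y⁻¹ * x * (x⁻¹ * g * x) * (y⁻¹ * x)⁻¹ = y⁻¹ * g * y by group]
    exact hy

open scoped Classical in
/-- Sums of class functions over the conjugates of the non-identity elements of `K`. -/
theorem sum_conj_set {K : Subgroup G} (hK : Hyp K) (f : G → ℝ)
    (hf : ∀ g x : G, f (x * g * x⁻¹) = f g) :
    (Nat.card ↥(Subgroup.normalizer (K : Set G)) : ℝ) *
        ∑ x ∈ Finset.univ.filter (fun x : G => ∃ g, g * x * g⁻¹ ∈ K ∧ x ≠ 1), f x =
      (Nat.card G : ℝ) * ∑ k ∈ punct K, f k := by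
  set S := Finset.univ.filter (fun x : G => ∃ g, g * x * g⁻¹ ∈ K ∧ x ≠ 1)
  set N : Subgroup G := Subgroup.normalizer (K : Set G)
  let P : Finset (G × G) := Finset.univ ×ˢ punct K
  have hmem : ∀ p ∈ P, p.1 * p.2 * p.1⁻¹ ∈ S := by
    intro p hp
    obtain ⟨-, hk, hk1⟩ := Finset.mem_filter.1 (Finset.mem_product.1 hp).2
    refine Finset.mem_filter.2 ⟨Finset.mem_univ _, p.1⁻¹, ?_, fun he => hk1 ?_⟩
    · simpa [mul_assoc] using hk
    · exact conj_eq_one_iff.1 he
  have hfib : ∀ x ∈ S, (P.filter fun p => p.1 * p.2 * p.1⁻¹ = x).card = Nat.card ↥N := by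
    intro x hx
    obtain ⟨-, a, hax, hx1⟩ := Finset.mem_filter.1 hx
    have hk1 : a * x * a⁻¹ ≠ 1 := fun he => hx1 (conj_eq_one_iff.1 he)
    rw [Nat.card_eq_fintype_card, Fintype.card_subtype]
    refine (Finset.card_bij (fun n _ => (a⁻¹ * n, n⁻¹ * (a * x * a⁻¹) * n)) ?_ ?_ ?_).symm
    · intro n hn
      have hnN : n ∈ N := (Finset.mem_filter.1 hn).2
      refine Finset.mem_filter.2 ⟨Finset.mem_product.2 ⟨Finset.mem_univ _,
        Finset.mem_filter.2 ⟨Finset.mem_univ _, ?_, fun he => hk1 ?_⟩⟩, by group⟩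
      · exact (Subgroup.mem_normalizer_iff''.1 hnN _).1 hax
      · have he' : n⁻¹ * (a * x * a⁻¹) * n = 1 := he
        calc a * x * a⁻¹ = n * (n⁻¹ * (a * x * a⁻¹) * n) * n⁻¹ := by group
          _ = 1 := by rw [he']; group
    · intro n _ m _ he
      exact mul_left_cancel (Prod.ext_iff.1 he).1
    · intro p hp
      obtain ⟨hpP, hpx⟩ := Finset.mem_filter.1 hp
      obtain ⟨-, hk, hk1'⟩ := Finset.mem_filter.1 (Finset.mem_product.1 hpP).2
      have hn : a * p.1 ∈ N := by
        by_contra hn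
        refine hk1' (hK.ti _ hn _ hk ?_)
        rw [show a * p.1 * p.2 * (a * p.1)⁻¹ = a * (p.1 * p.2 * p.1⁻¹) * a⁻¹ by group, hpx]
        exact hax
      refine ⟨a * p.1, Finset.mem_filter.2 ⟨Finset.mem_univ _, hn⟩, Prod.ext (by simp) ?_⟩
      show (a * p.1)⁻¹ * (a * x * a⁻¹) * (a * p.1) = p.2
      rw [← hpx]
      group
  calc (Nat.card ↥N : ℝ) * ∑ x ∈ S, f x
      = ∑ x ∈ S, ∑ p ∈ P.filter (fun p => p.1 * p.2 * p.1⁻¹ = x), f p.2 := by
        rw [Finset.mul_sum]
        refine Finset.sum_congr rfl fun x hx => ?_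
        rw [Finset.sum_congr rfl (g := fun _ => f x)
          (fun p hp => by rw [← (Finset.mem_filter.1 hp).2, hf]), Finset.sum_const, hfib x hx,
          nsmul_eq_mul]
    _ = ∑ p ∈ P, f p.2 := Finset.sum_fiberwise_of_maps_to hmem _
    _ = _ := by
        rw [Finset.sum_product]
        simp [Nat.card_eq_fintype_card]

/-- Distinct members have coprime orders. -/
theorem coprime_card {K L : Subgroup G} (hK : Hyp K)
    (hLK : ∀ k ∈ L, k ≠ 1 → ∀ g : G, g * k * g⁻¹ ∉ K) :
    (Nat.card ↥K).Coprime (Nat.card ↥L) := by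
  by_contra h
  obtain ⟨q, hq, hqK, hqL⟩ := Nat.Prime.not_coprime_iff_dvd.1 h
  haveI := Fact.mk hq
  have hcop := CfsgLib.TIFN.coprime_index hK.ti hK.cent
  obtain ⟨Q⟩ : Nonempty (Sylow q ↥K) := inferInstance
  let Q' : Subgroup G := (Q : Subgroup ↥K).map K.subtype
  have hQcard : Nat.card ↥Q' = q ^ (Nat.card G).factorization q := by
    rw [show Nat.card ↥Q' = Nat.card ↥(Q : Subgroup ↥K) from
      Subgroup.card_map_of_injective K.subtype_injective, Q.card_eq_multiplicity,
      ← K.card_mul_index, Nat.factorization_mul Nat.card_pos.ne' Subgroup.index_ne_zero_of_finite,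
      Finsupp.add_apply, Nat.factorization_eq_zero_of_not_dvd (n := K.index)
        (fun hd => hq.not_dvd_one (hcop ▸ Nat.dvd_gcd hqK hd)), add_zero]
  let P : Sylow q G := Sylow.ofCard Q' hQcard
  obtain ⟨y, hy⟩ := exists_prime_orderOf_dvd_card' q hqL
  have hyp : IsPGroup q (Subgroup.zpowers (y : G)) := IsPGroup.of_card (n := 1) (by
    rw [Nat.card_zpowers, Subgroup.orderOf_coe, hy, pow_one])
  obtain ⟨P', hP'⟩ := hyp.exists_le_sylow
  obtain ⟨g, hg⟩ := MulAction.exists_smul_eq G P' P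
  refine hLK y y.2 (fun he => hq.ne_one ?_) g ?_
  · rw [← hy, ← Subgroup.orderOf_coe, he, orderOf_one]
  · refine Subgroup.map_subtype_le (Q : Subgroup ↥K) ?_
    show g * (y : G) * g⁻¹ ∈ (P : Subgroup G)
    rw [← hg]
    exact Subgroup.smul_mem_pointwise_smul _ (MulAut.conj g) _ (hP' (Subgroup.mem_zpowers _))

set_option maxHeartbeats 1600000 in
/-- **The counting theorem.** -/
theorem covering_false (hodd : Odd (Nat.card G)) [Nontrivial G] {ι : Type v} [Fintype ι]
    (K : ι → Subgroup G) (hK : ∀ i, Hyp (K i))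
    (hnc : ∀ i j, i ≠ j → ∀ k ∈ K i, k ≠ 1 → ∀ g : G, g * k * g⁻¹ ∉ K j)
    (hcov : ∀ x : G, x ≠ 1 → ∃ i, ∃ g : G, g * x * g⁻¹ ∈ K i) : False := by
  classical
  have hM := fun i => exists_member hodd (hK i)
  let M : ∀ i, Member (K i) := fun i => (hM i).some
  have horth : ∀ i j, i ≠ j → ∀ {F H : G → ℂ}, SuppOn (K i) F → SuppOn (K j) H →
      classInner F H = 0 := fun i j hij F H hF hH =>
    classInner_eq_zero_of_suppOn (hnc i j hij) hF hH
  have hexne : ∀ i (a : (M i).ι), ∃ a', a' ≠ a := fun i a =>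
    Fintype.exists_ne_of_one_lt_card (by have := (M i).w_ge; omega) a
  have hδ : ∀ a b : IrrCharacter G, classInner (a : G → ℂ) (b : G → ℂ) =
      if a = b then 1 else 0 := classInner_irr
  -- exceptional characters of distinct members are distinct
  have hdisj : ∀ i j, i ≠ j → ∀ a b, (M i).μ a ≠ (M j).μ b := by
    intro i j hij a b hab
    obtain ⟨a', ha'⟩ := hexne i a
    obtain ⟨b', hb'⟩ := hexne j b
    have hs : ∀ (l : ι) (c c' : (M l).ι),
        SuppOn (K l) (((M l).μ c : G → ℂ) - ((M l).μ c' : G → ℂ)) := by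
      intro l c c' g hg
      have h1 := (M l).diff_supp c g hg
      have h2 := (M l).diff_supp c' g hg
      simp only [Pi.sub_apply] at h1 h2 ⊢
      linear_combination h1 - h2
    have h0 := horth i j hij (hs i a a') (hs j b b')
    simp only [classInner_sub_left, classInner_sub_right, hδ, if_pos hab,
      if_neg (fun e : (M i).μ a' = (M j).μ b => ha' ((M i).μ_inj (e.trans hab.symm))),
      if_neg (fun e : (M i).μ a = (M j).μ b' => hb' ((M j).μ_inj (e.symm.trans hab)))] at h0
    split_ifs at h0 <;> norm_num at h0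
  have hconst : ∀ i j, i ≠ j → ∀ a,
      (M i).u ((M j).μ a) = (M i).u ((M j).μ (M j).i₀) := by
    intro i j hij a
    have h0 := horth i j hij (M i).Δ_supp ((M j).diff_supp a)
    rw [classInner_sub_right, (M i).Δ_coeff, (M i).Δ_coeff, sub_eq_zero] at h0
    exact_mod_cast h0
  set b : ι → ι → ℤ := fun i j => (M i).u ((M j).μ (M j).i₀) with hb
  set w : ι → ℕ := fun i => Fintype.card (M i).ι with hw
  set e : ι → ℕ := fun i => (M i).e with he
  -- the norm bound
  have hnorm : ∀ k, ∑ i ∈ Finset.univ.erase k, (w i : ℤ) * b k i ^ 2 ≤ (e k : ℤ) - 1 := by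
    intro k
    let Φ : (Σ i, (M i).ι) → IrrCharacter G := fun p => (M p.1).μ p.2
    have hΦ : Function.Injective Φ := by
      rintro ⟨i, a⟩ ⟨j, c⟩ hac
      by_cases hij : i = j
      · subst hij
        exact congrArg (Sigma.mk i) ((M i).μ_inj hac)
      · exact absurd hac (hdisj i j hij a c)
    have hle : ∑ p, (M k).u (Φ p) ^ 2 + (M k).u (principalIrr G) ^ 2 ≤ ∑ ψ, (M k).u ψ ^ 2 := by
      have hmem : principalIrr G ∉ Finset.univ.image Φ := fun hmem => by
        obtain ⟨⟨l, a⟩, -, hp⟩ := Finset.mem_image.1 hmem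
        exact (M l).μ_ne_one a hp
      refine le_trans (le_of_eq ?_) (Finset.sum_le_sum_of_subset_of_nonneg
        (Finset.subset_univ (insert (principalIrr G) (Finset.univ.image Φ)))
        fun _ _ _ => sq_nonneg _)
      rw [Finset.sum_insert hmem, Finset.sum_image fun a _ c _ h => hΦ h, add_comm]
    rw [(M k).u_sq, (M k).u_one, Fintype.sum_sigma, ← Finset.add_sum_erase _ _ (Finset.mem_univ k)]
      at hle
    have hsplit : ∑ i ∈ Finset.univ.erase k, (w i : ℤ) * b k i ^ 2 =
        ∑ i ∈ Finset.univ.erase k, ∑ a, (M k).u (Φ ⟨i, a⟩) ^ 2 := by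
      refine Finset.sum_congr rfl fun i hi => ?_
      simp only [Φ, hconst k i (Ne.symm (Finset.ne_of_mem_erase hi)), Finset.sum_const,
        Finset.card_univ, nsmul_eq_mul, hw, hb]
    have hown : 1 ≤ ∑ a, (M k).u (Φ ⟨k, a⟩) ^ 2 := by
      obtain ⟨a, ha⟩ := hexne k (M k).i₀
      refine le_trans ?_ (Finset.sum_le_sum_of_subset_of_nonneg
        (Finset.subset_univ {(M k).i₀, a}) fun _ _ _ => sq_nonneg _)
      rw [Finset.sum_pair ha.symm]
      show 1 ≤ (M k).u ((M k).μ (M k).i₀) ^ 2 + (M k).u ((M k).μ a) ^ 2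
      rw [(M k).u_member a ha]
      set z := (M k).u ((M k).μ (M k).i₀)
      by_cases hz : z = 0
      · rcases (M k).ε_sq with hs | hs <;> rw [hz, hs] <;> norm_num
      · nlinarith [Int.one_le_abs hz, sq_abs z, sq_nonneg (z + (M k).ε)]
    linarith
  -- parity
  have hcast : ∀ i, ((M i).ε : ZMod 2) = 1 := fun i => by
    rcases (M i).ε_sq with h | h <;> rw [h] <;> decide
  have hwz : ∀ i, (w i : ZMod 2) = 0 := fun i =>
    (ZMod.natCast_eq_zero_iff _ 2).2 (even_iff_two_dvd.1 (M i).w_even)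
  have hpar : ∀ i j, i ≠ j → (b j i : ZMod 2) + (b i j : ZMod 2) = 1 := by
    intro i j hij
    have h0 : ∑ ψ, ((M i).u ψ : ZMod 2) * ((M j).u ψ : ZMod 2) = 0 := by
      have h1 := classInner_eq_sum_mul (φ := (M i).Δ) (M j).Δ_class
      rw [horth i j hij (M i).Δ_supp (M j).Δ_supp] at h1
      simp only [(M i).Δ_coeff, (M j).Δ_coeff, map_intCast] at h1
      have h2 : ∑ ψ, (M i).u ψ * (M j).u ψ = 0 := by exact_mod_cast h1.symm
      simpa using congrArg (fun z : ℤ => (z : ZMod 2)) h2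
    set f : IrrCharacter G → ZMod 2 := fun ψ => ((M i).u ψ : ZMod 2) * ((M j).u ψ : ZMod 2)
    let R : ι → Finset (IrrCharacter G) := fun l => Finset.univ.image (M l).μ
    have hR : ∀ l m, l ≠ m → ∑ a, ((M l).u ((M l).μ a) : ZMod 2) * ((M m).u ((M l).μ a) : ZMod 2) =
        (b m l : ZMod 2) := by
      intro l m hlm
      simp only [hconst m l hlm.symm, ← Finset.sum_mul]
      have h3 : ∀ a, ((M l).u ((M l).μ a) : ZMod 2) =
          ((M l).u ((M l).μ (M l).i₀) : ZMod 2) + 1 + if (M l).i₀ = a then 1 else 0 := by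
        intro a
        split_ifs with ha
        · subst ha
          rw [add_assoc, show (1 : ZMod 2) + 1 = 0 from rfl, add_zero]
        · rw [(M l).u_member a (Ne.symm ha), Int.cast_add, hcast, add_zero]
      rw [Finset.sum_congr rfl fun a _ => h3 a, Finset.sum_add_distrib, Finset.sum_const,
        Finset.card_univ, nsmul_eq_mul, hwz, zero_mul, zero_add,
        Finset.sum_eq_single (M l).i₀ (fun c _ hc => if_neg hc.symm)
          (fun hc => absurd (Finset.mem_univ _) hc), if_pos rfl, one_mul]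
    have hdR : Disjoint (R i) (R j) := Finset.disjoint_left.2 fun ψ h1 h2 => by
      obtain ⟨a, -, rfl⟩ := Finset.mem_image.1 h1
      obtain ⟨c, -, hc⟩ := Finset.mem_image.1 h2
      exact hdisj i j hij a c hc.symm
    have hpr : principalIrr G ∉ R i ∪ R j := by
      intro h
      rcases Finset.mem_union.1 h with h | h <;> obtain ⟨a, -, ha⟩ := Finset.mem_image.1 h
      · exact (M i).μ_ne_one a ha
      · exact (M j).μ_ne_one a ha
    have hrest : ∑ ψ ∈ Finset.univ \ insert (principalIrr G) (R i ∪ R j), f ψ = 0 := by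
      have hcl : ∀ (l : ι) ψ, ψ ∈ R l → CfsgLib.BrauerPerm.conjIrr ψ ∈ R l := by
        intro l ψ hψ
        obtain ⟨a, -, rfl⟩ := Finset.mem_image.1 hψ
        obtain ⟨a', ha'⟩ := (M l).μ_conj a
        exact Finset.mem_image.2 ⟨a', Finset.mem_univ _, ha'⟩
      have hinv : ∀ ψ : IrrCharacter G,
          CfsgLib.BrauerPerm.conjIrr (CfsgLib.BrauerPerm.conjIrr ψ) = ψ := fun ψ =>
        Subtype.ext (funext fun x => Complex.conj_conj _)
      have hout : ∀ ψ ∈ Finset.univ \ insert (principalIrr G) (R i ∪ R j),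
          ψ ≠ principalIrr G ∧ (∀ a, (M i).μ a ≠ ψ) ∧ ∀ a, (M j).μ a ≠ ψ := by
        intro ψ hψ
        simp only [Finset.mem_sdiff, Finset.mem_insert, Finset.mem_union, not_or] at hψ
        exact ⟨hψ.2.1, fun a ha => hψ.2.2.1 (Finset.mem_image.2 ⟨a, Finset.mem_univ _, ha⟩),
          fun a ha => hψ.2.2.2 (Finset.mem_image.2 ⟨a, Finset.mem_univ _, ha⟩)⟩
      refine Finset.sum_involution (fun ψ _ => CfsgLib.BrauerPerm.conjIrr ψ) ?_ ?_ ?_
        (fun ψ _ => hinv ψ)
      · intro ψ hψ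
        obtain ⟨-, hi', hj'⟩ := hout ψ hψ
        simp only [f, (M i).u_conj ψ hi', (M j).u_conj ψ hj']
        exact CharTwo.add_self_eq_zero _
      · intro ψ hψ _ hfix
        exact (hout ψ hψ).1 (real_irr_eq_one hodd ψ
          ((CfsgLib.BrauerPerm.conjIrr_eq_self_iff ψ).1 hfix))
      · intro ψ hψ
        simp only [Finset.mem_sdiff, Finset.mem_univ, true_and, Finset.mem_insert,
          Finset.mem_union] at hψ ⊢
        rintro (h | h | h)
        · refine hψ (Or.inl ?_)
          rw [← hinv ψ, h]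
          exact Subtype.ext (funext fun x => map_one _)
        · exact hψ (Or.inr (Or.inl (hinv ψ ▸ hcl i _ h)))
        · exact hψ (Or.inr (Or.inr (hinv ψ ▸ hcl j _ h)))
    rw [← Finset.sum_sdiff (Finset.subset_univ (insert (principalIrr G) (R i ∪ R j))), hrest,
      zero_add, Finset.sum_insert hpr, Finset.sum_union hdR,
      Finset.sum_image fun a _ c _ h => (M i).μ_inj h,
      Finset.sum_image fun a _ c _ h => (M j).μ_inj h] at h0
    simp only [f, (M i).u_one, (M j).u_one, Int.cast_one, one_mul] at h0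
    rw [hR i j hij, Finset.sum_congr rfl fun a _ => mul_comm _ _, hR j i hij.symm] at h0
    exact (sub_eq_zero.1 (by rw [CharTwo.sub_eq_add, add_comm]; exact h0))
  -- the covering identity
  have hg : (0 : ℝ) < (Nat.card G : ℝ) := Nat.cast_pos.2 Nat.card_pos
  have haK : ∀ i, (0 : ℝ) < (Nat.card ↥(K i) : ℝ) := fun i => Nat.cast_pos.2 Nat.card_pos
  have hep : ∀ i, (0 : ℝ) < (e i : ℝ) := fun i => by
    have := (M i).e_ge
    exact_mod_cast (by simp only [he]; omega : 0 < e i)
  have hcover : ∀ f : G → ℝ, (∀ g x : G, f (x * g * x⁻¹) = f g) →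
      (∑ x, f x) / (Nat.card G : ℝ) = f 1 / (Nat.card G : ℝ) +
        ∑ i, (∑ k ∈ punct (K i), f k) / ((Nat.card ↥(K i) : ℝ) * e i) := by
    intro f hf
    have huniq : ((Finset.univ : Finset ι) : Set ι).PairwiseDisjoint fun i =>
        Finset.univ.filter (fun x : G => ∃ g, g * x * g⁻¹ ∈ K i ∧ x ≠ 1) := by
      intro i _ j _ hij
      refine Finset.disjoint_left.2 fun x hx hx' => ?_
      obtain ⟨-, g, hg, hx1⟩ := Finset.mem_filter.1 hx
      obtain ⟨-, g', hg', -⟩ := Finset.mem_filter.1 hx'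
      refine hnc i j hij _ hg (fun he => hx1 (conj_eq_one_iff.1 he)) (g' * g⁻¹) ?_
      rwa [show g' * g⁻¹ * (g * x * g⁻¹) * (g' * g⁻¹)⁻¹ = g' * x * g'⁻¹ by group]
    rw [← Finset.add_sum_erase _ _ (Finset.mem_univ (1 : G)), add_div]
    congr 1
    rw [show (Finset.univ.erase (1 : G)) = Finset.univ.biUnion fun i =>
        Finset.univ.filter (fun x : G => ∃ g, g * x * g⁻¹ ∈ K i ∧ x ≠ 1) from ?_,
      Finset.sum_biUnion huniq, Finset.sum_div]
    · refine Finset.sum_congr rfl fun i _ => ?_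
      have h1 := sum_conj_set (hK i) f hf
      rw [(M i).card_normalizer, Nat.cast_mul] at h1
      rw [div_eq_div_iff hg.ne' (mul_pos (haK i) (hep i)).ne']
      linarith
    · ext x
      simp only [Finset.mem_erase, Finset.mem_univ, and_true, Finset.mem_biUnion,
        Finset.mem_filter, true_and]
      exact ⟨fun hx => let ⟨i, g, h⟩ := hcov x hx; ⟨i, g, h, hx⟩, fun ⟨i, g, _, hx⟩ => hx⟩
  obtain ⟨x₀, hx₀⟩ := exists_ne (1 : G)
  haveI : Nonempty ι := ⟨(hcov x₀ hx₀).choose⟩
  obtain ⟨k, -, hk⟩ := Finset.exists_min_image Finset.univ (fun i => w i * e i + 1)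
    Finset.univ_nonempty
  set x : ι → ℝ := fun i =>
    ((Nat.card ↥(K i) : ℝ) - 1) / ((Nat.card ↥(K i) : ℝ) * e i) with hxdef
  have hq : ∀ i, (Nat.card ↥(K i) : ℝ) = ((M i).dcard : ℝ) * ((w i : ℝ) * e i + 1) := fun i => by
    rw [← (M i).card_eq]
    push_cast
    rfl
  have hpunct : ∀ i, ((punct (K i)).card : ℝ) = (Nat.card ↥(K i) : ℝ) - 1 := by
    intro i
    have h1 : punct (K i) = (Finset.univ.filter fun x => x ∈ K i).erase 1 := by
      ext x; simp [punct, and_comm]
    rw [h1, Finset.card_erase_of_mem (Finset.mem_filter.2 ⟨Finset.mem_univ _, one_mem _⟩),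
      ← Fintype.card_subtype, ← Nat.card_eq_fintype_card, Nat.cast_sub Nat.card_pos, Nat.cast_one]
  let A : Finset ι := (Finset.univ.erase k).filter fun i => (b k i : ZMod 2) = 0
  refine arith (Nat.card G : ℝ) hg k e w x (fun i => (M i).e_odd) (fun i => (M i).e_ge)
    (fun i => (M i).w_even) (fun i => (M i).w_ge) ?_ (fun i => hk i (Finset.mem_univ i)) ?_ ?_ ?_ A
    (by simp [A]) ?_ ?_
  · intro i j hij
    by_contra hne
    have h1 : w i * e i + 1 ∣ Nat.card ↥(K i) := ⟨_, ((M i).card_eq.symm.trans (mul_comm _ _))⟩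
    have h2 : w j * e j + 1 ∣ Nat.card ↥(K j) := ⟨_, ((M j).card_eq.symm.trans (mul_comm _ _))⟩
    simp only at hij
    rw [← hij] at h2
    have := Nat.dvd_gcd h1 h2
    rw [(coprime_card (hK i) (hnc j i (Ne.symm hne))).gcd_eq_one, Nat.dvd_one] at this
    have h3 := Nat.mul_le_mul (M i).w_ge (M i).e_ge
    simp only [w, e] at this
    omega
  · intro i
    rw [hxdef, div_le_div_iff₀ (mul_pos (haK i) (hep i)) (hep i)]
    nlinarith [hep i]
  · intro i hs
    have h1 := hq i
    rw [(M i).sqfree hs, Nat.cast_one, one_mul] at h1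
    simp only [hxdef, h1]
    have := hep i
    have : (0 : ℝ) < (w i : ℝ) * e i + 1 := by positivity
    field_simp
    ring
  · have h1 := hcover (fun _ => 1) (fun _ _ => rfl)
    simp only [Finset.sum_const, Finset.card_univ, nsmul_one, hpunct] at h1
    rw [← Nat.card_eq_fintype_card, div_self hg.ne'] at h1
    simp only [hxdef]
    linarith
  · -- the norm of the exceptional character
    let m : IrrCharacter G := (M k).μ (M k).i₀
    have hm := hcover (fun y => Complex.normSq ((m : G → ℂ) y))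
      (fun g y => by simp only [irr_isClassFunction m g y])
    have hnorm1 : ∑ y, Complex.normSq ((m : G → ℂ) y) = (Nat.card G : ℝ) := by
      have h1 := classInner_irr_self m.2
      rw [classInner, inv_mul_eq_iff_eq_mul₀ (Nat.cast_ne_zero.2 Nat.card_pos.ne'), mul_one] at h1
      simp only [Complex.mul_conj] at h1
      exact_mod_cast h1
    rw [hnorm1, div_self hg.ne'] at hm
    obtain ⟨d, hd0, hd⟩ := irr_exists_degree m.2
    have hd1 : 1 / (Nat.card G : ℝ) ≤ Complex.normSq ((m : G → ℂ) 1) / (Nat.card G : ℝ) := by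
      refine div_le_div_of_nonneg_right ?_ hg.le
      rw [hd, Complex.normSq_natCast]
      have h1 : (1 : ℝ) ≤ d := by exact_mod_cast hd0
      nlinarith
    let T : ι → ℝ := fun i =>
      (∑ y ∈ punct (K i), Complex.normSq ((m : G → ℂ) y)) / ((Nat.card ↥(K i) : ℝ) * e i)
    have hsub : T k + ∑ i ∈ A, T i ≤ ∑ i, T i := by
      rw [← Finset.sum_insert (by simp [A])]
      exact Finset.sum_le_sum_of_subset_of_nonneg (Finset.subset_univ _) fun i _ _ =>
        div_nonneg (Finset.sum_nonneg fun y _ => Complex.normSq_nonneg _)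
          (mul_pos (haK i) (hep i)).le
    have hTk : 1 - (e k : ℝ) / ((w k : ℝ) * e k + 1) ≤ T k := by
      rw [le_div_iff₀ (mul_pos (haK k) (hep k))]
      refine le_trans (le_of_eq ?_) (M k).bound_own
      rw [hq k]
      have : (0 : ℝ) < (w k : ℝ) * e k + 1 := by positivity
      simp only [hw, he] at this ⊢
      field_simp
    have hTi : ∀ i ∈ A, (w i : ℝ) / ((w i : ℝ) * e i + 1) ≤ T i := by
      intro i hi
      obtain ⟨hik, hbi⟩ := Finset.mem_filter.1 hi
      have hik' := Finset.ne_of_mem_erase hik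
      have hbne : b i k ≠ 0 := by
        intro h0
        have h1 := hpar i k hik'
        rw [hbi, h0] at h1
        simp at h1
      rw [le_div_iff₀ (mul_pos (haK i) (hep i))]
      refine le_trans ?_ ((M i).bound_out m (fun a => hdisj i k hik' a _))
      rw [hq i]
      have h1 : (1 : ℝ) ≤ ((b i k : ℤ) : ℝ) ^ 2 := by
        have h2 : 1 ≤ b i k ^ 2 := Int.add_one_le_iff.2 (sq_pos_of_ne_zero hbne)
        exact_mod_cast h2
      have hwe : (0 : ℝ) ≤ (w i : ℝ) * e i := by positivity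
      have h3 : (w i : ℝ) / ((w i : ℝ) * e i + 1) *
          (((M i).dcard : ℝ) * ((w i : ℝ) * e i + 1) * e i) =
          ((M i).dcard : ℝ) * ((w i : ℝ) * e i) * 1 := by
        have : (0 : ℝ) < (w i : ℝ) * e i + 1 := by positivity
        field_simp
      rw [h3]
      exact mul_le_mul_of_nonneg_left h1 (by positivity)
    have := Finset.sum_le_sum hTi
    linarith
  · have hsub : Finset.univ \ insert k A ⊆ Finset.univ.erase k := fun i hi => by
      simp only [Finset.mem_sdiff, Finset.mem_insert, not_or] at hi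
      exact Finset.mem_erase.2 ⟨hi.2.1, Finset.mem_univ i⟩
    have h1 : ∑ i ∈ Finset.univ \ insert k A, (w i : ℤ) ≤ (e k : ℤ) - 1 := by
      refine le_trans ?_ ((Finset.sum_le_sum_of_subset_of_nonneg hsub
        fun i _ _ => by positivity).trans (hnorm k))
      refine Finset.sum_le_sum fun i hi => ?_
      have hne : b k i ≠ 0 := fun h0 => by
        refine (Finset.mem_sdiff.1 hi).2 (Finset.mem_insert_of_mem
          (Finset.mem_filter.2 ⟨hsub hi, ?_⟩))
        rw [h0]; rfl
      exact le_mul_of_one_le_right (by positivity) (Int.add_one_le_iff.2 (sq_pos_of_ne_zero hne))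
    exact_mod_cast h1

end CfsgLib.CNCount
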