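import Cfsg.Agent.Lib.CNCount.LinearChars
import Cfsg.Agent.Lib.Characters.BrauerPerm
import Mathlib.Tactic.Group

/-!
# Characters of a group induced from linear characters of a normal subgroup with free action
-/

set_option autoImplicit false

noncomputable section

namespace CfsgLib.CNCount

open Cfsg CfsgLib.Characters
open scoped ComplexConjugate

universe u

variable {N : Type u} [Group N]

/-- The function induced from a linear character. -/
def chi [Fintype N] (H : Subgroup N) (f : ↥H →* ℂˣ) : N → ℂ :=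
  indFun H (fun y => (f y : ℂ))

/-- Conjugation acts freely. -/
def FreeOn (H : Subgroup N) : Prop := ∀ x ∉ H, ∀ k ∈ H, k * x = x * k → k = 1

variable [Fintype N] {H : Subgroup N} [hn : H.Normal]

theorem inertia_eq (hfree : FreeOn H) {f : ↥H →* ℂˣ} (hf : f ≠ 1) :
    CfsgLib.Clifford.inertia hn (fun y : H => (f y : ℂ)) = H := by
  refine le_antisymm (fun x hx => ?_) (CfsgLib.Clifford.le_inertia hn
    (isClassFunction_of_isCharacter (isCharacter_of_irr (isIrrCharacter_of_hom f))))
  by_contra hxH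
  let c : H → H := fun k => ⟨x * k * x⁻¹, hn.conj_mem _ k.2 x⟩ * k⁻¹
  have hc : Function.Injective c := by
    intro p q hpq
    have he : x * (p : N) * x⁻¹ * (p : N)⁻¹ = x * (q : N) * x⁻¹ * (q : N)⁻¹ :=
      congrArg Subtype.val hpq
    have hxp : x * (p : N) * x⁻¹ = (x * (q : N) * x⁻¹ * (q : N)⁻¹) * p := by
      rw [← he]; group
    have h2 : x * ((q : N)⁻¹ * p) * x⁻¹ = (q : N)⁻¹ * p := by
      calc x * ((q : N)⁻¹ * p) * x⁻¹ = (x * (q : N) * x⁻¹)⁻¹ * (x * (p : N) * x⁻¹) := by group
        _ = (x * (q : N) * x⁻¹)⁻¹ * ((x * (q : N) * x⁻¹ * (q : N)⁻¹) * p) := by rw [hxp]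
        _ = _ := by group
    exact Subtype.ext (inv_mul_eq_one.1 (hfree x hxH _ (H.mul_mem (H.inv_mem q.2) p.2)
      (mul_inv_eq_iff_eq_mul.1 h2).symm)).symm
  refine hf (MonoidHom.ext fun y => ?_)
  obtain ⟨w, rfl⟩ := (Finite.injective_iff_surjective.1 hc) y
  have hw : f ⟨x * w * x⁻¹, hn.conj_mem _ w.2 x⟩ = f w := Units.ext (congrFun hx w)
  show f (⟨x * w * x⁻¹, hn.conj_mem _ w.2 x⟩ * w⁻¹) = 1
  rw [map_mul, map_inv, hw, mul_inv_cancel]

theorem isCharacter_chi (f : ↥H →* ℂˣ) : IsCharacter N (chi H f) :=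
  CfsgLib.Induction.isCharacter_indFun H (isCharacter_of_irr (isIrrCharacter_of_hom f))

theorem chi_apply_one (f : ↥H →* ℂˣ) : chi H f 1 = (H.index : ℂ) := by
  simp [chi, CfsgLib.Induction.indFun_one_apply]

theorem chi_off (f : ↥H →* ℂˣ) {x : N} (hx : x ∉ H) : chi H f x = 0 :=
  CfsgLib.Induction.indFun_normal_eq_zero H hx

theorem conj_chi (f : ↥H →* ℂˣ) (x : N) : conj (chi H f x) = chi H f⁻¹ x := by
  haveI : Fintype H := Fintype.ofFinite H
  rw [chi, ← CfsgLib.Induction.indFun_conj_apply H]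
  simp [chi, conj_unitsHom]

theorem norm_chi (hfree : FreeOn H) {f : ↥H →* ℂˣ} (hf : f ≠ 1) :
    classInner (chi H f) (chi H f) = 1 := by
  classical
  haveI : Fintype H := Fintype.ofFinite H
  have hcl : IsClassFunction H (fun y : H => (f y : ℂ)) :=
    isClassFunction_of_isCharacter (isCharacter_of_irr (isIrrCharacter_of_hom f))
  rw [chi, CfsgLib.Clifford.classInner_indFun_indFun hn hcl]
  have key : ∀ x : N, classInner (fun y : H => (f y : ℂ))
      (CfsgLib.Clifford.conjChar hn (fun y : H => (f y : ℂ)) x) = if x ∈ H then 1 else 0 := by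
    intro x
    by_cases hx : x ∈ H
    · rw [if_pos hx, show CfsgLib.Clifford.conjChar hn (fun y : H => (f y : ℂ)) x = fun y : H => (f y : ℂ)
        from (show x ∈ CfsgLib.Clifford.inertia hn (fun y : H => (f y : ℂ)) from
          (inertia_eq hfree hf).symm ▸ hx), classInner_irr_self (isIrrCharacter_of_hom f)]
    · rw [if_neg hx]
      refine classInner_irr_ne (isIrrCharacter_of_hom f)
        (CfsgLib.Clifford.isIrrCharacter_conjChar hn (isIrrCharacter_of_hom f) x) fun h => hx ?_
      have : x ∈ CfsgLib.Clifford.inertia hn (fun y : H => (f y : ℂ)) := h.symm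
      rwa [inertia_eq hfree hf] at this
  rw [Finset.sum_congr rfl fun x _ => key x, ← Finset.sum_filter, Finset.sum_const, nsmul_one,
    ← Fintype.card_subtype, ← Nat.card_eq_fintype_card]
  exact inv_mul_cancel₀ (Nat.cast_ne_zero.2 Nat.card_pos.ne')

theorem isIrr_chi (hfree : FreeOn H) {f : ↥H →* ℂˣ} (hf : f ≠ 1) :
    IsIrrCharacter N (chi H f) :=
  CfsgLib.Clifford.isIrr_of_norm_one (isCharacter_chi f) (norm_chi hfree hf)

theorem classInner_res [Fintype H] {φ : N → ℂ} (hφ : IsClassFunction N φ) (f : ↥H →* ℂˣ) :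
    classInner (fun y : H => φ y) (fun y : H => (f y : ℂ)) = classInner φ (chi H f) :=
  (CfsgLib.Induction.classInner_indFun_right H _ hφ).symm

open scoped Classical in
/-- The function induced from the trivial character. -/
theorem classInner_chi_trivial (f : ↥H →* ℂˣ) :
    classInner (chi H 1) (chi H f) = if f = 1 then (H.index : ℂ) else 0 := by
  classical
  haveI : Fintype H := Fintype.ofFinite H
  rw [chi, chi, CfsgLib.Clifford.classInner_indFun_indFun hn
    (isClassFunction_of_isCharacter (isCharacter_of_irr (isIrrCharacter_of_hom 1)))]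
  split_ifs with hf
  · subst hf
    simp only [MonoidHom.one_apply, Units.val_one]
    rw [Finset.sum_congr rfl fun x _ => show classInner (fun _ : H => (1 : ℂ))
      (CfsgLib.Clifford.conjChar hn (fun _ : H => (1 : ℂ)) x) =
      classInner (fun _ : H => (1 : ℂ)) (fun _ : H => (1 : ℂ)) from rfl]
    rw [show classInner (fun _ : H => (1 : ℂ)) (fun _ : H => (1 : ℂ)) = 1 from
      classInner_irr_self isIrrCharacter_one, Finset.sum_const, Finset.card_univ, nsmul_one,
      ← Nat.card_eq_fintype_card, ← H.card_mul_index, Nat.cast_mul,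
      inv_mul_cancel_left₀ (Nat.cast_ne_zero.2 Nat.card_pos.ne')]
  · refine mul_eq_zero_of_right _ (Finset.sum_eq_zero fun x _ => ?_)
    refine classInner_irr_ne (isIrrCharacter_of_hom 1)
      (CfsgLib.Clifford.isIrrCharacter_conjChar hn (isIrrCharacter_of_hom f) x) fun h => hf ?_
    ext y
    have hy := congrFun h ⟨x⁻¹ * y * x, by simpa using hn.conj_mem _ y.2 x⁻¹⟩
    simpa [CfsgLib.Clifford.conjChar, mul_assoc] using hy.symm

open scoped Classical in
/-- The irreducible characters induced from nontrivial linear characters. -/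
def indSet (H : Subgroup N) : Finset (IrrCharacter N) :=
  Finset.univ.filter fun χ => ∃ f : ↥H →* ℂˣ, f ≠ 1 ∧ chi H f = (χ : N → ℂ)

theorem mem_indSet {χ : IrrCharacter N} :
    χ ∈ indSet H ↔ ∃ f : ↥H →* ℂˣ, f ≠ 1 ∧ chi H f = (χ : N → ℂ) := by
  classical
  simp [indSet]

open scoped Classical in
theorem card_fibre [Fintype H] (hfree : FreeOn H) {χ : IrrCharacter N} (hχ : χ ∈ indSet H) :
    (Finset.univ.filter fun h : ↥H →* ℂˣ => h ≠ 1 ∧ chi H h = (χ : N → ℂ)).card = H.index := by
  obtain ⟨f, hf, hfχ⟩ := mem_indSet.1 hχ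
  have hcl : IsClassFunction N (chi H f) := hfχ ▸ irr_isClassFunction χ
  have h := sum_coeff (K := ↥H) (fun y : H => chi H f y)
  simp only [classInner_res hcl] at h
  have hD : ∀ y ∈ Finset.univ.filter (fun y : H => y ∈ commutator H),
      chi H f y = (H.index : ℂ) := by
    intro y hy
    have hyD := (Finset.mem_filter.1 hy).2
    rw [chi, CfsgLib.Induction.indFun_normal_apply H _ y, Finset.sum_congr rfl fun x _ => ?_,
      Finset.sum_const, Finset.card_univ, nsmul_one, ← Nat.card_eq_fintype_card,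
      ← H.card_mul_index, Nat.cast_mul, inv_mul_cancel_left₀ (Nat.cast_ne_zero.2 Nat.card_pos.ne')]
    let g : ↥H →* ↥H := CfsgLib.Clifford.conjHom hn x
    have h1 : g y ∈ commutator ↥H := by
      have := Subgroup.mem_map_of_mem g hyD
      rw [commutator_def, Subgroup.map_commutator] at this
      exact (Subgroup.commutator_mono le_top le_top) this
    have h2 : f (g y) = 1 := Abelianization.commutator_subset_ker f h1
    exact (congrArg Units.val h2).trans Units.val_one
  rw [Finset.sum_congr rfl hD, Finset.sum_const, nsmul_eq_mul] at h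
  have hcardD : (((Finset.univ.filter fun y : H => y ∈ commutator H).card : ℕ) : ℂ) =
      (Nat.card (commutator H) : ℂ) := by
    rw [Nat.card_eq_fintype_card, Fintype.card_subtype]
  rw [hcardD, mul_right_inj' (Nat.cast_ne_zero.2 Nat.card_pos.ne')] at h
  have key : ∀ g : ↥H →* ℂˣ, classInner (chi H f) (chi H g) =
      if g ≠ 1 ∧ chi H g = (χ : N → ℂ) then 1 else 0 := by
    intro g
    by_cases hg : g = 1
    · subst hg
      rw [if_neg (fun h => h.1 rfl), CfsgLib.Induction.classInner_swap, classInner_chi_trivial,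
        if_neg hf, map_zero]
    · by_cases hgχ : chi H g = (χ : N → ℂ)
      · rw [if_pos ⟨hg, hgχ⟩, hgχ, hfχ, classInner_irr_self χ.2]
      · rw [if_neg (fun h => hgχ h.2), hfχ,
          classInner_irr_ne χ.2 (isIrr_chi hfree hg) (fun h => hgχ h.symm)]
  rw [Finset.sum_congr rfl fun g _ => key g, Finset.sum_boole] at h
  exact_mod_cast h

/-- Sums over the linear characters of `H`, grouped by induced character. -/
theorem sum_coeff_comp [Fintype H] (hfree : FreeOn H) {φ : N → ℂ} (hφ : IsClassFunction N φ)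
    {M : Type*} [AddCommMonoid M] (F : ℂ → M) :
    ∑ f : ↥H →* ℂˣ, F (classInner (fun y : H => φ y) (fun y : H => (f y : ℂ))) =
      F (classInner φ (chi H 1)) +
        H.index • ∑ χ ∈ indSet H, F (classInner φ (χ : N → ℂ)) := by
  classical
  simp only [classInner_res hφ]
  rw [← Finset.add_sum_erase Finset.univ _ (Finset.mem_univ (1 : ↥H →* ℂˣ))]
  congr 1
  let q : {f : ↥H →* ℂˣ // f ≠ 1} → IrrCharacter N := fun f => ⟨chi H f, isIrr_chi hfree f.2⟩
  rw [Finset.sum_subtype (p := fun f : ↥H →* ℂˣ => f ≠ 1) _ (fun f => by simp),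
    ← Finset.sum_fiberwise_of_maps_to (g := q) (t := indSet H)
      (fun f _ => mem_indSet.2 ⟨f.1, f.2, rfl⟩), Finset.smul_sum]
  refine Finset.sum_congr rfl fun χ hχ => ?_
  refine (Finset.sum_congr rfl (g := fun _ => F (classInner φ (χ : N → ℂ)))
    (fun f hf => by rw [← (Finset.mem_filter.1 hf).2])).trans ?_
  rw [Finset.sum_const]
  congr 1
  rw [← card_fibre hfree hχ]
  exact Finset.card_bij (fun f _ => f.1)
    (fun f hf => Finset.mem_filter.2 ⟨Finset.mem_univ _, f.2,
      congrArg Subtype.val (Finset.mem_filter.1 hf).2⟩)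
    (fun a _ b _ h => Subtype.ext h)
    (fun g hg => ⟨⟨g, (Finset.mem_filter.1 hg).2.1⟩,
      Finset.mem_filter.2 ⟨Finset.mem_univ _, Subtype.ext (Finset.mem_filter.1 hg).2.2⟩, rfl⟩)

theorem card_indSet [Fintype H] (hfree : FreeOn H) :
    (indSet H).card * H.index + 1 = (commutator H).index := by
  have h := sum_coeff_comp hfree (H := H) (φ := fun _ => (0 : ℂ)) (fun _ _ => rfl)
    (M := ℕ) (fun _ => 1)
  simp only [Finset.sum_const, Finset.card_univ, smul_eq_mul, mul_one] at h
  rw [← card_unitsHom, Nat.card_eq_fintype_card, h, add_comm, mul_comm]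

theorem conjIrr_mem_indSet {χ : IrrCharacter N} (hχ : χ ∈ indSet H) :
    CfsgLib.BrauerPerm.conjIrr χ ∈ indSet H := by
  obtain ⟨f, hf, hfχ⟩ := mem_indSet.1 hχ
  refine mem_indSet.2 ⟨f⁻¹, fun h => hf ?_, funext fun x => ?_⟩
  · ext y
    have := congrArg (fun g : ↥H →* ℂˣ => g y) h
    simpa using this
  rw [← conj_chi, hfχ, CfsgLib.BrauerPerm.conjIrr_apply]

theorem indSet_apply_one {χ : IrrCharacter N} (hχ : χ ∈ indSet H) :
    (χ : N → ℂ) 1 = (H.index : ℂ) := by
  obtain ⟨f, hf, hfχ⟩ := mem_indSet.1 hχ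
  rw [← hfχ, chi_apply_one]

theorem indSet_off {χ : IrrCharacter N} (hχ : χ ∈ indSet H) {x : N} (hx : x ∉ H) :
    (χ : N → ℂ) x = 0 := by
  obtain ⟨f, hf, hfχ⟩ := mem_indSet.1 hχ
  rw [← hfχ, chi_off f hx]

theorem chi_trivial_apply [Fintype H] (y : H) : chi H 1 y = (H.index : ℂ) := by
  rw [chi, CfsgLib.Induction.indFun_normal_apply H _ y]
  simp only [MonoidHom.one_apply, Units.val_one, Finset.sum_const, Finset.card_univ, nsmul_one]
  rw [← Nat.card_eq_fintype_card, ← H.card_mul_index, Nat.cast_mul,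
    inv_mul_cancel_left₀ (Nat.cast_ne_zero.2 Nat.card_pos.ne')]

end CfsgLib.CNCount
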