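import Cfsg.Agent.Lib.CNCount.Frob
import Cfsg.Agent.Lib.Characters.TIFNChar

/-!
# Exceptional characters and the auxiliary class function of a T.I. subgroup in a group of odd order
-/

set_option autoImplicit false

noncomputable section

namespace CfsgLib.CNCount

open Cfsg CfsgLib.Characters
open scoped ComplexConjugate

universe u

variable {G : Type u} [Group G]

/-- Hypotheses on a member of the covering family. -/
structure Hyp (K : Subgroup G) : Prop where
  ti : ∀ g : G, g ∉ Subgroup.normalizer (K : Set G) → ∀ k ∈ K, g * k * g⁻¹ ∈ K → k = 1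
  cent : ∀ k ∈ K, k ≠ 1 → Subgroup.centralizer ({k} : Set G) ≤ K
  lt : K < Subgroup.normalizer (K : Set G)
  nilp : Group.IsNilpotent K
  ne_bot : K ≠ ⊥

/-- The function vanishes unless its argument is conjugate to a non-identity element of `K`. -/
def SuppOn (K : Subgroup G) (F : G → ℂ) : Prop :=
  ∀ g : G, (∀ x : G, x⁻¹ * g * x ∈ K → g = 1) → F g = 0

variable [Fintype G]

open scoped Classical in
/-- The non-identity elements of `K`. -/
def punct (K : Subgroup G) : Finset G := Finset.univ.filter fun x => x ∈ K ∧ x ≠ 1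

/-- Sum of squares over the non-identity elements of `K`. -/
def sqSum (K : Subgroup G) (F : G → ℂ) : ℝ := ∑ x ∈ punct K, Complex.normSq (F x)

theorem suppOn_indFun {K : Subgroup G} {α : ↥(Subgroup.normalizer (K : Set G)) → ℂ}
    (hoff : ∀ x : ↥(Subgroup.normalizer (K : Set G)),
      x ∉ K.subgroupOf (Subgroup.normalizer (K : Set G)) → α x = 0) (h1 : α 1 = 0) :
    SuppOn K (indFun (Subgroup.normalizer (K : Set G)) α) := by
  intro g hg
  rw [CfsgLib.Induction.indFun_apply]
  refine mul_eq_zero_of_right _ (Finset.sum_eq_zero fun x _ => ?_)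
  by_cases hN : x⁻¹ * g * x ∈ Subgroup.normalizer (K : Set G)
  · rw [CfsgLib.Induction.extendByZero_mem _ α hN]
    by_cases hK : x⁻¹ * g * x ∈ K
    · have h := hg x hK
      rw [show (⟨x⁻¹ * g * x, hN⟩ : ↥(Subgroup.normalizer (K : Set G))) = 1 from
        Subtype.ext (by simp [h]), h1]
    · exact hoff ⟨_, hN⟩ hK
  · exact CfsgLib.Induction.extendByZero_notMem _ α hN

/-- The character theoretic data attached to one member of the family. -/
structure Member (K : Subgroup G) where
  /-- index type of the exceptional characters -/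
  ι : Type u
  [fin : Fintype ι]
  /-- base point -/
  i₀ : ι
  /-- exceptional characters -/
  μ : ι → IrrCharacter G
  /-- the sign -/
  ε : ℤ
  /-- coefficients of `Δ` -/
  u : IrrCharacter G → ℤ
  /-- the auxiliary class function -/
  Δ : G → ℂ
  /-- index of `K` in its normalizer -/
  e : ℕ
  /-- order of the derived subgroup -/
  dcard : ℕ
  ε_sq : ε = 1 ∨ ε = -1
  card_eq : dcard * (Fintype.card ι * e + 1) = Nat.card K
  sqfree : Squarefree (Fintype.card ι * e + 1) → dcard = 1
  e_odd : Odd e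
  e_ge : 3 ≤ e
  w_even : Even (Fintype.card ι)
  w_ge : 2 ≤ Fintype.card ι
  card_normalizer : Nat.card ↥(Subgroup.normalizer (K : Set G)) = Nat.card K * e
  μ_inj : Function.Injective μ
  μ_ne_one : ∀ i, μ i ≠ principalIrr G
  μ_conj : ∀ i, ∃ j, μ j = CfsgLib.BrauerPerm.conjIrr (μ i)
  diff_supp : ∀ i, SuppOn K ((μ i : G → ℂ) - (μ i₀ : G → ℂ))
  Δ_supp : SuppOn K Δ
  Δ_class : IsClassFunction G Δ
  Δ_coeff : ∀ ψ : IrrCharacter G, classInner Δ (ψ : G → ℂ) = (u ψ : ℂ)
  u_one : u (principalIrr G) = 1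
  u_sq : ∑ ψ, u ψ ^ 2 = (e : ℤ) + 1
  u_member : ∀ i, i ≠ i₀ → u (μ i) = u (μ i₀) + ε
  u_conj : ∀ ψ, (∀ i, μ i ≠ ψ) → u (CfsgLib.BrauerPerm.conjIrr ψ) = u ψ
  bound_out : ∀ ψ : IrrCharacter G, (∀ i, μ i ≠ ψ) →
    (dcard : ℝ) * (Fintype.card ι * e) * (u ψ : ℝ) ^ 2 ≤ sqSum K (ψ : G → ℂ)
  bound_own : (dcard : ℝ) * e * (Fintype.card ι * e + 1 - e) ≤ sqSum K (μ i₀ : G → ℂ)

attribute [instance] Member.fin

theorem exists_sign {ε : ℂ} (h : ε = 1 ∨ ε = -1) : ∃ z : ℤ, (z = 1 ∨ z = -1) ∧ ε = (z : ℂ) := by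
  rcases h with h | h
  · exact ⟨1, Or.inl rfl, by simp [h]⟩
  · exact ⟨-1, Or.inr rfl, by simp [h]⟩

theorem conj_classInner_conj (φ ψ : G → ℂ) :
    classInner (fun g => conj (φ g)) ψ = conj (classInner φ (fun g => conj (ψ g))) := by
  simp [classInner, map_sum]

set_option maxHeartbeats 1600000 in
theorem exists_member (hodd : Odd (Nat.card G)) {K : Subgroup G} (h : Hyp K) :
    Nonempty (Member K) := by
  classical
  set N : Subgroup G := Subgroup.normalizer (K : Set G)
  haveI : Fintype ↥N := Fintype.ofFinite _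
  set H : Subgroup ↥N := K.subgroupOf N
  haveI hn : H.Normal := Subgroup.normal_in_normalizer
  haveI : Fintype ↥H := Fintype.ofFinite _
  have hfree : FreeOn H := CfsgLib.TIFNChar.free h.cent
  have hKN : K ≤ N := h.lt.le
  let eqv : ↥H ≃* ↥K := Subgroup.subgroupOfEquivOfLe hKN
  haveI : Group.IsNilpotent ↥H := by
    haveI := h.nilp
    exact Group.nilpotent_of_mulEquiv eqv.symm
  haveI : Nontrivial ↥H := by
    haveI := (Subgroup.nontrivial_iff_ne_bot K).2 h.ne_bot
    exact eqv.toEquiv.nontrivial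
  have hcardH : Nat.card ↥H = Nat.card ↥K := Nat.card_congr eqv.toEquiv
  have hNodd : Odd (Nat.card ↥N) := hodd.of_dvd_nat (Subgroup.card_subgroup_dvd_card N)
  have hNmul : Nat.card ↥N = Nat.card ↥K * H.index := by rw [← hcardH, H.card_mul_index]
  have heodd : Odd H.index := hNodd.of_dvd_nat H.index_dvd_card
  have hene : H.index ≠ 1 := by
    rw [ne_eq, Subgroup.index_eq_one, Subgroup.subgroupOf_eq_top]
    exact fun hle => h.lt.not_ge hle
  have hege : 3 ≤ H.index := by
    obtain ⟨k, hk⟩ := heodd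
    omega
  set ι : Type u := {χ : IrrCharacter ↥N // χ ∈ indSet H}
  have hw : Fintype.card ι * H.index + 1 = (commutator ↥H).index := by
    rw [Fintype.card_coe, card_indSet hfree]
  have hDlt : commutator ↥H ≠ ⊤ := (Group.IsSolvable.commutator_lt_top_of_nontrivial _).ne
  have hcpos : 0 < Fintype.card ι := by
    by_contra h0
    rw [not_lt, Nat.le_zero] at h0
    rw [h0, zero_mul, zero_add] at hw
    exact hDlt (Subgroup.index_eq_one.1 hw.symm)
  let cj : ι → ι := fun i => ⟨CfsgLib.BrauerPerm.conjIrr i.1, conjIrr_mem_indSet i.2⟩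
  have hN1 : ∀ i : ι, i.1 ≠ principalIrr ↥N := by
    intro i hi
    have h1 := indSet_apply_one i.2
    rw [hi] at h1
    exact hene (by exact_mod_cast (h1.symm.trans (by rfl) : (H.index : ℂ) = 1))
  have hcjne : ∀ i : ι, cj i ≠ i := fun i hi =>
    hN1 i (real_irr_eq_one hNodd i.1 ((CfsgLib.BrauerPerm.conjIrr_eq_self_iff i.1).1
      (congrArg Subtype.val hi)))
  have hcjinv : ∀ i : ι, cj (cj i) = i := fun i =>
    Subtype.ext (Subtype.ext (funext fun x => Complex.conj_conj _))
  have hweven : Even (Fintype.card ι) := by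
    have hh : ∑ _i : ι, (1 : ZMod 2) = 0 :=
      Finset.sum_involution (fun i _ => cj i) (fun i _ => by decide) (fun i _ _ => hcjne i)
        (fun i _ => Finset.mem_univ _) (fun i _ => hcjinv i)
    rw [Finset.sum_const, Finset.card_univ, nsmul_one] at hh
    exact even_iff_two_dvd.2 ((ZMod.natCast_eq_zero_iff _ 2).1 hh)
  have hwge : 2 ≤ Fintype.card ι := by
    obtain ⟨k, hk⟩ := hweven
    omega
  obtain ⟨i₀⟩ : Nonempty ι := Fintype.card_pos_iff.1 hcpos
  have hexne : ∀ i : ι, ∃ j, j ≠ i := fun i => ⟨cj i, hcjne i⟩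
  let χ : ι → ↥N → ℂ := fun i => (i.1 : ↥N → ℂ)
  have hoff : ∀ (i : ι) (x : ↥N), x ∉ H → χ i x = 0 := fun i x hx => indSet_off i.2 hx
  have hone : ∀ i : ι, χ i 1 = (H.index : ℂ) := fun i => indSet_apply_one i.2
  have hcl : ∀ i : ι, IsClassFunction ↥N (χ i) := fun i => irr_isClassFunction i.1
  have hdoff : ∀ (i j : ι) (x : ↥N), x ∉ H → (χ i - χ j) x = 0 := fun i j x hx => by
    simp [hoff i x hx, hoff j x hx]
  have hd1 : ∀ i j : ι, (χ i - χ j) 1 = 0 := fun i j => by simp [hone]
  have hdcl : ∀ i j : ι, IsClassFunction ↥N (χ i - χ j) := fun i j =>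
    isClassFunction_sub (hcl i) (hcl j)
  obtain ⟨εc, hεc, μ, hμ, hτ⟩ := CfsgLib.CharExceptional.exceptional_family i₀
    (fun i => indFun N (χ i - χ i₀))
    (by funext g; simp [CfsgLib.Induction.indFun_apply, extendByZero, Function.extend_def])
    (fun i => CfsgLib.CharArtin.isGeneralizedCharacter_indFun N
      (isGeneralizedCharacter_sub (isGeneralizedCharacter_irr i.1) (isGeneralizedCharacter_irr i₀.1)))
    (fun i => by rw [CfsgLib.Induction.indFun_one_apply, hd1, mul_zero])
    (fun i hi => by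
      rw [CfsgLib.TIFNChar.isometry h.ti h.cent (hdcl i i₀) (hdoff i i₀) (hd1 i i₀),
        CfsgLib.CharExceptional.classInner_diff]
      have : i.1 ≠ i₀.1 := fun e => hi (Subtype.ext e)
      simp [this, this.symm])
    (fun i j hi hj hne => by
      rw [CfsgLib.TIFNChar.isometry h.ti h.cent (hdcl j i₀) (hdoff j i₀) (hd1 j i₀),
        CfsgLib.CharExceptional.classInner_diff]
      have h1 : i.1 ≠ j.1 := fun e => hne (Subtype.ext e)
      have h2 : i.1 ≠ i₀.1 := fun e => hi (Subtype.ext e)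
      have h3 : i₀.1 ≠ j.1 := fun e => hj (Subtype.ext e.symm)
      simp [h1, h2, h3])
  obtain ⟨ε, hε, rfl⟩ := exists_sign hεc
  have hεε : (ε : ℂ) * ε = 1 := by rcases hε with rfl | rfl <;> norm_num
  have hε0 : (ε : ℂ) ≠ 0 := left_ne_zero_of_mul_eq_one hεε
  have hind : ∀ i j : ι, indFun N (χ i - χ j) = (ε : ℂ) • ((μ i : G → ℂ) - (μ j : G → ℂ)) := by
    intro i j
    rw [show χ i - χ j = (χ i - χ i₀) - (χ j - χ i₀) by abel, CfsgLib.Induction.indFun_sub,
      hτ i, hτ j, ← smul_sub]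
    congr 1
    abel
  have hδ : ∀ a b : IrrCharacter ↥N, classInner (a : ↥N → ℂ) (b : ↥N → ℂ) =
      if a = b then 1 else 0 := classInner_irr
  have hδG : ∀ a b : IrrCharacter G, classInner (a : G → ℂ) (b : G → ℂ) =
      if a = b then 1 else 0 := classInner_irr
  -- the principal character is not exceptional
  have hμ1 : ∀ i, μ i ≠ principalIrr G := by
    intro i hi
    obtain ⟨j, hj⟩ := hexne i
    have h0 : classInner (indFun N (χ i - χ j)) (principalIrr G : G → ℂ) = 0 := by
      rw [CfsgLib.Induction.classInner_indFun N _ (irr_isClassFunction _), classInner_sub_left]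
      show classInner (χ i) (principalIrr ↥N : ↥N → ℂ) - classInner (χ j) (principalIrr ↥N : ↥N → ℂ) = 0
      rw [hδ, hδ, if_neg (hN1 i), if_neg (hN1 j), sub_self]
    rw [hind, classInner_smul_left, classInner_sub_left, hδG, hδG, if_pos hi,
      if_neg (fun e => hj (hμ (e.trans hi.symm)))] at h0
    simp [hε0] at h0
  have hconjind : ∀ i j : ι, (fun g => conj (indFun N (χ i - χ j) g)) =
      indFun N (χ (cj i) - χ (cj j)) := by
    intro i j
    funext g
    rw [← CfsgLib.Induction.indFun_conj_apply]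
    refine congrFun (congrArg (indFun N) (funext fun x => ?_)) g
    simp [χ, cj]
  have hμcj : ∀ i, μ (cj i) = CfsgLib.BrauerPerm.conjIrr (μ i) := by
    intro i
    obtain ⟨j, hj⟩ := hexne i
    have heq : (μ (cj i) : G → ℂ) - (μ (cj j) : G → ℂ) =
        (CfsgLib.BrauerPerm.conjIrr (μ i) : G → ℂ) - (CfsgLib.BrauerPerm.conjIrr (μ j) : G → ℂ) := by
      funext g
      have h1 := congrFun (hconjind i j) g
      rw [hind, hind] at h1
      simp only [Pi.smul_apply, Pi.sub_apply, smul_eq_mul, map_mul, map_intCast, map_sub] at h1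
      simpa using (mul_left_cancel₀ hε0 h1).symm
    have hne : CfsgLib.BrauerPerm.conjIrr (μ j) ≠ CfsgLib.BrauerPerm.conjIrr (μ i) := fun e =>
      hj (hμ (Subtype.ext (funext fun g => by
        have := congrArg (fun c : IrrCharacter G => conj ((c : G → ℂ) g)) e
        simpa using this)))
    have h2 := congrArg (fun F => classInner F (CfsgLib.BrauerPerm.conjIrr (μ i) : G → ℂ)) heq
    simp only [classInner_sub_left, hδG, if_neg hne] at h2
    by_contra hne'
    simp only [if_neg hne', if_true] at h2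
    split_ifs at h2 <;> norm_num at h2
  -- the auxiliary function
  let β : ↥N → ℂ := chi H 1 - χ i₀
  have hβcl : IsClassFunction ↥N β :=
    isClassFunction_sub (isClassFunction_of_isCharacter (isCharacter_chi 1)) (hcl i₀)
  have hβoff : ∀ x, x ∉ H → β x = 0 := fun x hx => by simp [β, chi_off 1 hx, hoff i₀ x hx]
  have hβ1 : β 1 = 0 := by simp [β, chi_apply_one, hone]
  have hχtriv : ∀ i : ι, classInner (chi H 1) (χ i) = 0 := by
    intro i
    obtain ⟨f, hf, hfi⟩ := mem_indSet.1 i.2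
    show classInner (chi H 1) (i.1 : ↥N → ℂ) = 0
    rw [← hfi, classInner_chi_trivial, if_neg hf]
  have hβχ : ∀ i : ι, classInner β (χ i) = -(if i₀ = i then 1 else 0) := by
    intro i
    rw [classInner_sub_left, hχtriv, zero_sub, hδ]
    simp [Subtype.val_inj]
  let Δ : G → ℂ := indFun N β
  have hΔcl : IsClassFunction G Δ := CfsgLib.Induction.isClassFunction_indFun N β
  have hΔgen : IsGeneralizedCharacter G Δ := CfsgLib.CharArtin.isGeneralizedCharacter_indFun N
    (isGeneralizedCharacter_sub (isGeneralizedCharacter_of_isCharacter (isCharacter_chi 1))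
      (isGeneralizedCharacter_irr i₀.1))
  choose u hu using fun ψ : IrrCharacter G =>
    classInner_generalized_int hΔgen (isGeneralizedCharacter_irr ψ)
  have hu1 : u (principalIrr G) = 1 := by
    have h1 : classInner Δ (principalIrr G : G → ℂ) = 1 := by
      rw [CfsgLib.Induction.classInner_indFun N _ (irr_isClassFunction _), classInner_sub_left]
      show classInner (chi H 1) (fun _ : ↥N => (1 : ℂ)) - classInner (χ i₀) (principalIrr ↥N : ↥N → ℂ) = 1
      rw [hδ, if_neg (hN1 i₀), sub_zero, chi, CfsgLib.Induction.classInner_indFun H _ (fun _ _ => rfl)]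
      exact classInner_irr_self isIrrCharacter_one
    rw [hu] at h1
    exact_mod_cast h1
  have husq : ∑ ψ, u ψ ^ 2 = (H.index : ℤ) + 1 := by
    have h1 : classInner Δ Δ = (H.index : ℂ) + 1 := by
      rw [CfsgLib.TIFNChar.isometry h.ti h.cent hβcl hβoff hβ1, classInner_sub_right,
        classInner_sub_left (chi H 1) (χ i₀) (chi H 1), hβχ, if_pos rfl, classInner_chi_trivial,
        if_pos rfl, CfsgLib.Induction.classInner_swap (χ i₀), hχtriv, map_zero]
      ring
    rw [classInner_self_eq_sum_sq hΔcl hu] at h1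
    exact_mod_cast h1
  have humem : ∀ i, i ≠ i₀ → u (μ i) = u (μ i₀) + ε := by
    intro i hi
    have h1 : classInner Δ (indFun N (χ i - χ i₀)) = 1 := by
      rw [CfsgLib.TIFNChar.isometry h.ti h.cent (hdcl i i₀) (hdoff i i₀) (hd1 i i₀),
        classInner_sub_right, hβχ, hβχ, if_pos rfl, if_neg (Ne.symm hi)]
      ring
    rw [hind, classInner_smul_right, classInner_sub_right, hu, hu, map_intCast] at h1
    have h2 : (u (μ i) : ℂ) = u (μ i₀) + ε := by
      linear_combination (ε : ℂ) * h1 - ((u (μ i) : ℂ) - u (μ i₀)) * hεε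
    exact_mod_cast h2
  have huconj : ∀ ψ, (∀ i, μ i ≠ ψ) → u (CfsgLib.BrauerPerm.conjIrr ψ) = u ψ := by
    intro ψ hψ
    have hconjΔ : (fun g => conj (Δ g)) =
        Δ + (ε : ℂ) • ((μ i₀ : G → ℂ) - (μ (cj i₀) : G → ℂ)) := by
      rw [← hind, ← CfsgLib.Induction.indFun_add]
      funext g
      rw [← CfsgLib.Induction.indFun_conj_apply]
      refine congrFun (congrArg (indFun N) (funext fun x => ?_)) g
      simp only [β, χ, cj, Pi.add_apply, Pi.sub_apply, map_sub, conj_chi,
        CfsgLib.BrauerPerm.conjIrr_apply]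
      rw [show (1 : ↥H →* ℂˣ)⁻¹ = 1 from MonoidHom.ext fun _ => inv_one]
      ring
    have h1 : classInner (fun g => conj (Δ g)) (ψ : G → ℂ) = (u ψ : ℂ) := by
      rw [hconjΔ, classInner_add_left, classInner_smul_left, classInner_sub_left, hδG, hδG,
        if_neg (hψ _), if_neg (hψ _), hu]
      ring
    rw [conj_classInner_conj] at h1
    have h2 : conj (classInner Δ (CfsgLib.BrauerPerm.conjIrr ψ : G → ℂ)) = (u ψ : ℂ) := h1
    rw [hu, map_intCast] at h2
    exact_mod_cast h2
  -- multiplicities in the restriction to the normalizer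
  have hcoeff : ∀ ψ : IrrCharacter G, ∃ m₁ m₀ : ℕ,
      classInner (fun x : ↥N => (ψ : G → ℂ) x) (chi H 1) = m₁ ∧
      u ψ = (m₁ : ℤ) - m₀ ∧
      ∀ i : ι, classInner (fun x : ↥N => (ψ : G → ℂ) x) (χ i) =
        ((m₀ + ε * ((if ψ = μ i then 1 else 0) - (if ψ = μ i₀ then 1 else 0)) : ℤ) : ℂ) := by
    intro ψ
    have hres := CfsgLib.Clifford.isCharacter_subtype (irr_isCharacter ψ) N
    obtain ⟨m₁, hm₁⟩ := classInner_char_nat hres (isCharacter_chi (H := H) 1)
    obtain ⟨m₀, hm₀⟩ := classInner_char_nat hres (irr_isCharacter i₀.1)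
    refine ⟨m₁, m₀, hm₁, ?_, fun i => ?_⟩
    · have h1 := hu ψ
      rw [CfsgLib.Induction.classInner_indFun N β (irr_isClassFunction ψ),
        CfsgLib.Induction.classInner_swap, classInner_sub_right, hm₁] at h1
      rw [show classInner (fun x : ↥N => (ψ : G → ℂ) x) (χ i₀) = (m₀ : ℂ) from hm₀] at h1
      simp only [map_sub, map_natCast] at h1
      exact_mod_cast h1.symm
    · have h1 := CfsgLib.Induction.classInner_indFun_right N (χ i - χ i₀) (irr_isClassFunction ψ)
      rw [hind, classInner_smul_right, classInner_sub_right, classInner_sub_right, hδG, hδG,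
        map_intCast, show classInner (fun x : ↥N => (ψ : G → ℂ) x) (χ i₀) = (m₀ : ℂ) from hm₀] at h1
      rw [eq_add_of_sub_eq h1.symm]
      split_ifs <;> push_cast <;> ring
  have hbound : ∀ ψ : IrrCharacter G, ∀ (m₁ : ℕ) (z : ι → ℤ),
      classInner (fun x : ↥N => (ψ : G → ℂ) x) (chi H 1) = m₁ →
      (∀ i, classInner (fun x : ↥N => (ψ : G → ℂ) x) (χ i) = (z i : ℂ)) →
      (Nat.card (commutator ↥H) : ℝ) *
        (((Fintype.card ι : ℝ) * H.index + 1) *
          ((m₁ : ℝ) ^ 2 + H.index * ((∑ i, z i ^ 2 : ℤ) : ℝ)) -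
            ((m₁ : ℝ) + H.index * ((∑ i, z i : ℤ) : ℝ)) ^ 2) ≤ sqSum K (ψ : G → ℂ) := by
    intro ψ m₁ z hm₁ hz
    have hφ : IsClassFunction ↥N (fun x : ↥N => (ψ : G → ℂ) x) :=
      fun a b => irr_isClassFunction ψ (a : G) (b : G)
    have hlb := linear_bound (K := ↥H) (fun y : ↥H => (ψ : G → ℂ) ((y : ↥N) : G))
    have hs1 := sum_coeff_comp hfree hφ (fun c : ℂ => c)
    have hs2 := sum_coeff_comp hfree hφ Complex.normSq
    rw [hm₁, ← Finset.sum_coe_sort (indSet H)] at hs1
    rw [hm₁, ← Finset.sum_coe_sort (indSet H)] at hs2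
    simp only [χ] at hz
    simp only [hz, nsmul_eq_mul, Complex.normSq_natCast, Complex.normSq_intCast] at hs1 hs2
    rw [hs2, hs1] at hlb
    have hc : ((m₁ : ℂ) + (H.index : ℂ) * ∑ i : ι, (z i : ℂ)) =
        (((m₁ : ℝ) + H.index * ((∑ i, z i : ℤ) : ℝ) : ℝ) : ℂ) := by push_cast; rfl
    rw [hc, Complex.normSq_ofReal, ← hw] at hlb
    push_cast at hlb ⊢
    simp only [sq] at hlb ⊢
    refine le_trans hlb ?_
    let emb : ↥H ↪ G := ⟨fun y => ((y : ↥N) : G), fun a b e => Subtype.ext (Subtype.ext e)⟩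
    refine le_trans (le_of_eq (Finset.sum_map _ emb (fun g => Complex.normSq ((ψ : G → ℂ) g))).symm) ?_
    refine Finset.sum_le_sum_of_subset_of_nonneg ?_ (fun g _ _ => Complex.normSq_nonneg _)
    intro g hg
    obtain ⟨y, hy, rfl⟩ := Finset.mem_map.1 hg
    refine Finset.mem_filter.2 ⟨Finset.mem_univ _, y.2, fun e => (Finset.mem_filter.1 hy).2 ?_⟩
    rw [show y = 1 from Subtype.ext (Subtype.ext e)]
    exact one_mem _
  refine ⟨{
    ι := ι, i₀ := i₀, μ := μ, ε := ε, u := u, Δ := Δ, e := H.index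
    dcard := Nat.card (commutator ↥H)
    ε_sq := hε
    card_eq := by rw [hw, (commutator ↥H).card_mul_index, hcardH]
    sqfree := fun hs => by
      rw [hw] at hs
      rw [commutator_eq_bot_of_squarefree hs, Subgroup.card_bot]
    e_odd := heodd, e_ge := hege, w_even := hweven, w_ge := hwge
    card_normalizer := hNmul
    μ_inj := hμ, μ_ne_one := hμ1, μ_conj := fun i => ⟨cj i, hμcj i⟩
    diff_supp := fun i => ?_
    Δ_supp := suppOn_indFun hβoff hβ1
    Δ_class := hΔcl, Δ_coeff := hu, u_one := hu1, u_sq := husq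
    u_member := humem, u_conj := huconj
    bound_out := fun ψ hψ => ?_
    bound_own := ?_ }⟩
  · intro g hg
    have h1 := suppOn_indFun (K := K) (hdoff i i₀) (hd1 i i₀) g hg
    rw [hind, Pi.smul_apply, smul_eq_mul, mul_eq_zero] at h1
    exact h1.resolve_left hε0
  · obtain ⟨m₁, m₀, hm₁, hum, hz⟩ := hcoeff ψ
    refine le_trans (le_of_eq ?_) (hbound ψ m₁ (fun _ => (m₀ : ℤ)) hm₁ (fun i => by
      rw [hz i, if_neg (hψ i).symm, if_neg (hψ i₀).symm]; simp))
    rw [hum]
    simp only [Finset.sum_const, Finset.card_univ, nsmul_eq_mul]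
    push_cast
    ring
  · obtain ⟨m₁, m₀, hm₁, -, hz⟩ := hcoeff (μ i₀)
    set c : ℤ := (m₀ : ℤ) - ε
    set d : ℤ := (m₁ : ℤ) - c
    have hd : 0 ≤ (Fintype.card ι : ℤ) * d ^ 2 - 2 * ε * d := by
      have h1 : 0 ≤ d ^ 2 - ε * d := by
        rcases hε with rfl | rfl <;> rcases le_or_gt d 0 with h0 | h0 <;> nlinarith
      have h2 : (2 : ℤ) ≤ Fintype.card ι := by exact_mod_cast hwge
      nlinarith [mul_nonneg (sub_nonneg.2 h2) (sq_nonneg d)]
    refine le_trans ?_ (hbound (μ i₀) m₁ (fun i => c + if i₀ = i then ε else 0) hm₁ (fun i => by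
      rw [hz i, if_pos rfl]
      simp only [hμ.eq_iff, c]
      split_ifs <;> push_cast <;> ring))
    have hs1 : ∑ i : ι, (c + if i₀ = i then ε else 0) = Fintype.card ι * c + ε := by
      rw [Finset.sum_add_distrib, Finset.sum_const, Finset.card_univ, nsmul_eq_mul,
        Finset.sum_eq_single i₀ (fun j _ hj => if_neg (Ne.symm hj))
          (fun hj => absurd (Finset.mem_univ i₀) hj), if_pos rfl]
    have hs2 : ∑ i : ι, (c + if i₀ = i then ε else 0) ^ 2 =
        Fintype.card ι * c ^ 2 + (2 * c * ε + 1) := by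
      have hεsq : ε ^ 2 = 1 := by rcases hε with rfl | rfl <;> norm_num
      rw [Finset.sum_congr rfl fun i _ => show (c + if i₀ = i then ε else 0) ^ 2 =
        c ^ 2 + (if i₀ = i then 2 * c * ε + 1 else 0) by split_ifs <;> simp [add_sq, hεsq]; ring]
      rw [Finset.sum_add_distrib, Finset.sum_const, Finset.card_univ, nsmul_eq_mul,
        Finset.sum_eq_single i₀ (fun j _ hj => if_neg (Ne.symm hj))
          (fun hj => absurd (Finset.mem_univ i₀) hj), if_pos rfl]
    rw [hs1, hs2]
    have hd' : (0 : ℝ) ≤ (Fintype.card ι : ℝ) * (d : ℝ) ^ 2 - 2 * (ε : ℝ) * d := by exact_mod_cast hd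
    have hεr : (ε : ℝ) ^ 2 = 1 := by rcases hε with rfl | rfl <;> norm_num
    have hpos : (0 : ℝ) ≤ (Nat.card (commutator ↥H) : ℝ) * H.index := by positivity
    have hdd : (d : ℝ) = (m₁ : ℝ) - c := by simp [d]
    rw [hdd] at hd'
    push_cast
    refine le_of_sub_nonneg ?_
    calc (0 : ℝ) ≤ (Nat.card (commutator ↥H) : ℝ) * H.index *
          ((Fintype.card ι : ℝ) * ((m₁ : ℝ) - c) ^ 2 - 2 * (ε : ℝ) * ((m₁ : ℝ) - c)) :=
        mul_nonneg hpos hd'
      _ = _ := by
        linear_combination ((Nat.card (commutator ↥H) : ℝ) * (H.index : ℝ) ^ 2) * hεr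

end CfsgLib.CNCount
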